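import Cfsg.Agent.Lib.RankTwoClass.Outside
import Cfsg.Agent.S4209

/-!
# Odd `p`-groups of rank two whose elements of order `p` lie in one group of order `p^2`

`inside`: such a group is metacyclic or a `3`-group of maximal class (assuming the classification for
the smaller orders).
-/

set_option autoImplicit false

namespace Cfsg.Agent.RankTwoClass

open Subgroup
open scoped commutatorElement

universe u

variable {G : Type u} [Group G] {p : ℕ}

local notation "γ" => Subgroup.lowerCentralSeries (⊤ : Subgroup _)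

theorem commutator_le_of_gen (K : Subgroup G) [K.Normal] {S : Set G} (hS : closure S = ⊤)
    (h : ∀ a ∈ S, ∀ b ∈ S, ⁅a, b⁆ ∈ K) : commutator G ≤ K := by
  have hc : ∀ a b : G, ⁅(a : G ⧸ K), (b : G ⧸ K)⁆ = 1 := by
    have h1 : ∀ a ∈ S, ∀ b : G, Commute (a : G ⧸ K) (b : G ⧸ K) := by
      intro a ha b
      have hle : closure S ≤ (centralizer ({(a : G ⧸ K)} : Set (G ⧸ K))).comap (QuotientGroup.mk' K) := by
        rw [closure_le]
        intro c hc
        refine mem_centralizer_singleton_iff.mpr ?_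
        rw [← commutatorElement_eq_one_iff_mul_comm]
        exact (map_commutatorElement (QuotientGroup.mk' K) c a).symm.trans
          ((QuotientGroup.eq_one_iff _).mpr (h c hc a ha))
      exact (mem_centralizer_singleton_iff.mp (hle (hS ▸ mem_top b))).symm
    intro a b
    rw [commutatorElement_eq_one_iff_mul_comm]
    have hle : closure S ≤ (centralizer ({(b : G ⧸ K)} : Set (G ⧸ K))).comap (QuotientGroup.mk' K) := by
      rw [closure_le]
      exact fun c hc => mem_centralizer_singleton_iff.mpr (h1 c hc b).eq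
    exact mem_centralizer_singleton_iff.mp (hle (hS ▸ mem_top a))
  rw [commutator_eq_closure, closure_le]
  rintro _ ⟨a, b, rfl⟩
  exact (QuotientGroup.eq_one_iff _).mp ((map_commutatorElement (QuotientGroup.mk' K) a b).trans (hc a b))

theorem commutator_pow_of_gen (hcl : commutator G ≤ center G) {S : Set G} (hS : closure S = ⊤)
    (h : ∀ a ∈ S, ∀ b ∈ S, ⁅a, b⁆ ^ p = 1) (a b : G) : ⁅a, b⁆ ^ p = 1 := by
  have hz : ∀ a b : G, ⁅a, b⁆ ∈ center G := PGroup.mem_center_of_class_two hcl
  have hstep : ∀ a : G, (∀ b ∈ S, ⁅a, b⁆ ^ p = 1) → ∀ b : G, ⁅a, b⁆ ^ p = 1 := by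
    intro a ha b
    have hb : b ∈ closure S := hS ▸ mem_top b
    induction hb using closure_induction with
    | mem c hc => exact ha c hc
    | one => rw [commutatorElement_one_right, one_pow]
    | mul c d _ _ hc hd =>
      rw [PGroup.commutator_mul_right (hz a d),
        (show Commute ⁅a, c⁆ ⁅a, d⁆ from mem_center_iff.mp (hz a d) _).mul_pow, hc, hd, one_mul]
    | inv c _ hc =>
      have h2 : ⁅a, c⁆ * ⁅a, c⁻¹⁆ = 1 := by
        rw [← PGroup.commutator_mul_right (hz a c⁻¹), mul_inv_cancel, commutatorElement_one_right]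
      rw [eq_inv_of_mul_eq_one_right h2, inv_pow, hc, inv_one]
  have hswap : ∀ c ∈ S, ∀ d : G, ⁅d, c⁆ ^ p = 1 := fun c hc d => by
    rw [← commutatorElement_inv, inv_pow, hstep c (h c hc) d, inv_one]
  exact hstep a (fun c hc => hswap c hc a) b

theorem conj_cube {g u t e : G} (hgu : g * u * g⁻¹ = t * u) (hgt : g * t * g⁻¹ = e * t) (hge : g * e * g⁻¹ = e)
    (hte : Commute t e) : g ^ 3 * u * (g ^ 3)⁻¹ = e ^ 3 * t ^ 3 * u := by
  calc g ^ 3 * u * (g ^ 3)⁻¹ = g * (g * (g * u * g⁻¹) * g⁻¹) * g⁻¹ := by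
        simp only [pow_succ, pow_zero, one_mul, mul_inv_rev, mul_assoc]
    _ = g * (g * (t * u) * g⁻¹) * g⁻¹ := by rw [hgu]
    _ = g * ((g * t * g⁻¹) * (g * u * g⁻¹)) * g⁻¹ := by group
    _ = g * (e * t * (t * u)) * g⁻¹ := by rw [hgt, hgu]
    _ = (g * e * g⁻¹) * (g * t * g⁻¹) * (g * t * g⁻¹) * (g * u * g⁻¹) := by group
    _ = e * (e * t) * (e * t) * (t * u) := by rw [hge, hgt, hgu]
    _ = e * e * (t * e) * t * (t * u) := by group
    _ = e * e * (e * t) * t * (t * u) := by rw [hte.eq]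
    _ = e ^ 3 * t ^ 3 * u := by simp only [pow_succ, pow_zero, one_mul, mul_assoc]

variable [Finite G] [Fact p.Prime]

theorem isCyclic_of_frattini_index_le (hG : IsPGroup p G) (h : (frattini G).index ≤ p) : IsCyclic G := by
  by_cases htop : frattini G = ⊤
  · have : (⊥ : Subgroup G) = ⊤ := frattini_nongenerating (by rw [htop, sup_top_eq])
    exact isCyclic_iff_exists_zpowers_eq_top.mpr ⟨1, by rw [zpowers_one_eq_bot, this]⟩
  · obtain ⟨x, -, hx⟩ := SetLike.exists_of_lt (lt_top_iff_ne_top.mpr htop)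
    refine isCyclic_iff_exists_zpowers_eq_top.mpr ⟨x, frattini_nongenerating ?_⟩
    rw [sup_comm]
    refine eq_top_of_le_card _ ?_
    rw [PGroup.card_sup_zpowers_frattini hG le_rfl hx, ← (frattini G).card_mul_index]
    exact Nat.mul_le_mul_left _ h

omit [Fact p.Prime] in
theorem card_comap_mk' {Z : Subgroup G} [Z.Normal] (hZ : Nat.card Z = p) (A : Subgroup (G ⧸ Z)) :
    Nat.card ↥(A.comap (QuotientGroup.mk' Z)) = Nat.card A * p := by
  have h1 := (A.comap (QuotientGroup.mk' Z)).card_mul_index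
  rw [index_comap_of_surjective _ (QuotientGroup.mk'_surjective Z), ← Z.card_mul_index, index_eq_card Z,
    ← A.card_mul_index, hZ] at h1
  exact Nat.eq_of_mul_eq_mul_right (Nat.pos_of_ne_zero index_ne_zero_of_finite)
    (h1.trans (by ring))

theorem pRankLE_quotient (hp2 : p ≠ 2) {E : Subgroup G} (hE2 : Nat.card E = p ^ 2)
    (hom : ∀ x : G, x ^ p = 1 → x ∈ E) {Z : Subgroup G} [Z.Normal] (hZ : Nat.card Z = p)
    (hZc : Z ≤ center G) : Cfsg.PRankLE p 2 (G ⧸ Z) := by
  have hp : p.Prime := Fact.out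
  intro A hA hAp
  set F := A.comap (QuotientGroup.mk' Z)
  have hcomm : ∀ a ∈ F, ∀ b ∈ F, ⁅b, a⁆ ∈ Z := fun a ha b hb => by
    refine (QuotientGroup.eq_one_iff _).mp ((map_commutatorElement (QuotientGroup.mk' Z) b a).trans ?_)
    exact commutatorElement_eq_one_iff_mul_comm.mpr (PGroup.mul_comm_of_isMulCommutative hA hb ha)
  let φ : F →* Z :=
    { toFun := fun x => ⟨(x : G) ^ p, (QuotientGroup.eq_one_iff _).mp (by
        have := hAp _ x.2
        simpa using this)⟩
      map_one' := Subtype.ext (one_pow p)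
      map_mul' := fun a b => Subtype.ext (PGroup.mul_pow_prime hp hp2 (hZc (hcomm a a.2 b b.2))
        (by simpa [hZ] using congrArg Subtype.val (pow_card_eq_one' (x := (⟨_, hcomm a a.2 b b.2⟩ : Z))))) }
  have hker : Nat.card φ.ker ≤ p ^ 2 := by
    rw [← hE2]
    refine Nat.card_le_card_of_injective
      (fun x => (⟨((x : F) : G), hom _ (congrArg Subtype.val x.2)⟩ : E)) ?_
    intro a b hab
    exact Subtype.ext (Subtype.ext (congrArg (fun t : E => (t : G)) hab))
  have hrange : Nat.card φ.range ≤ p := (φ.range.card_le_card_group).trans hZ.le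
  have h := φ.ker.card_mul_index
  rw [index_ker, card_comap_mk' hZ A] at h
  exact Nat.le_of_mul_le_mul_right (h.symm.le.trans (Nat.mul_le_mul hker hrange)) hp.pos

/-- The range of the `p`-th power homomorphism has index `p^2`. -/
theorem powHom_range (hp2 : p ≠ 2) {E : Subgroup G} (hE : Cfsg.IsElementaryAbelian p E)
    (hE2 : Nat.card E = p ^ 2) (hom : ∀ x : G, x ^ p = 1 → x ∈ E) (hcl : commutator G ≤ center G)
    (hc : ∀ a b : G, ⁅a, b⁆ ^ p = 1) :
    (PGroup.powHom (Fact.out : p.Prime) hp2 hcl hc).range.index = p ^ 2 := by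
  set φ := PGroup.powHom (Fact.out : p.Prime) hp2 hcl hc
  have hker : φ.ker = E := le_antisymm (fun x hx => hom x hx) fun x hx => hE.2 x hx
  have h1 := φ.ker.card_mul_index
  rw [index_ker, hker, hE2, ← φ.range.card_mul_index, mul_comm] at h1
  exact (Nat.eq_of_mul_eq_mul_left Nat.card_pos h1).symm

theorem metacyclic_of_small (hp2 : p ≠ 2) (hG : IsPGroup p G) (hnc : ¬ IsCyclic G) {E : Subgroup G}
    (hE : Cfsg.IsElementaryAbelian p E) (hE2 : Nat.card E = p ^ 2) (hom : ∀ x : G, x ^ p = 1 → x ∈ E)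
    (hs : Nat.card (commutator G) ≤ p) : Cfsg.IsMetacyclic G := by
  have hp : p.Prime := Fact.out
  obtain ⟨k, hk⟩ := PGroup.card_eq_pow hG (commutator G)
  have hk1 : k ≤ 1 := (Nat.pow_le_pow_iff_right hp.one_lt).mp (by rw [pow_one, ← hk]; exact hs)
  have hpow : ∀ c ∈ commutator G, c ^ p = 1 := fun c hc => by
    have h : (⟨c, hc⟩ : commutator G) ^ Nat.card (commutator G) = 1 := pow_card_eq_one'
    rw [hk] at h
    rcases Nat.le_one_iff_eq_zero_or_eq_one.mp hk1 with rfl | rfl
    · have h' : c = 1 := by simpa using congrArg Subtype.val h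
      rw [h', one_pow]
    · simpa using congrArg Subtype.val h
  have hcl : commutator G ≤ center G := by
    rcases Nat.le_one_iff_eq_zero_or_eq_one.mp hk1 with rfl | rfl
    · rw [pow_zero, card_eq_one] at hk; rw [hk]; exact bot_le
    · exact PGroup.le_center_of_card_eq hG _ (by rw [hk, pow_one])
  have hc : ∀ a b : G, ⁅a, b⁆ ^ p = 1 := fun a b => hpow _ (commutator_mem_commutator (mem_top a) (mem_top b))
  set φ := PGroup.powHom hp hp2 hcl hc with hφ
  have hidx := powHom_range hp2 hE hE2 hom hcl hc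
  have hΦ : frattini G = φ.range := by
    have hle : φ.range ≤ frattini G := by rintro _ ⟨x, rfl⟩; exact PGroup.pow_mem_frattini hG x
    by_contra hne
    have hlt : φ.range < frattini G := lt_of_le_of_ne hle (Ne.symm hne)
    refine hnc (isCyclic_of_frattini_index_le hG ?_)
    have h1 := PGroup.mul_card_le_card hG hlt
    have h2 := (frattini G).card_mul_index
    have h3 := φ.range.card_mul_index
    rw [hidx] at h3
    have h4 : p * Nat.card φ.range * (frattini G).index ≤ p * Nat.card φ.range * p :=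
      calc p * Nat.card φ.range * (frattini G).index ≤ Nat.card (frattini G) * (frattini G).index :=
            Nat.mul_le_mul_right _ h1
        _ = Nat.card φ.range * p ^ 2 := by rw [h2, h3]
        _ = _ := by ring
    exact Nat.le_of_mul_le_mul_left h4 (Nat.mul_pos hp.pos Nat.card_pos)
  obtain ⟨u₀, hu₀⟩ : ∃ u : G, commutator G ≤ zpowers u := by
    rcases Nat.le_one_iff_eq_zero_or_eq_one.mp hk1 with rfl | rfl
    · rw [pow_zero, card_eq_one] at hk
      exact ⟨1, by rw [hk]; exact bot_le⟩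
    · obtain ⟨g, hg⟩ := (isCyclic_of_prime_card (α := commutator G) (p := p) (by rw [hk, pow_one])).exists_zpow_surjective
      refine ⟨g, fun a ha => ?_⟩
      obtain ⟨i, hi⟩ := hg ⟨a, ha⟩
      exact ⟨i, by simpa using congrArg Subtype.val hi⟩
  obtain ⟨u, hu, humax⟩ := Set.exists_max_image {u : G | commutator G ≤ zpowers u} orderOf (Set.toFinite _) ⟨u₀, hu₀⟩
  have huΦ : u ∉ frattini G := by
    rw [hΦ]
    rintro ⟨v, rfl⟩
    rw [hφ, PGroup.powHom_apply] at hu humax
    have hv : commutator G ≤ zpowers v := hu.trans (zpowers_le.mpr (pow_mem (mem_zpowers v) p))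
    rcases eq_or_ne v 1 with rfl | hv1
    · refine hnc ?_
      have hall : ∀ g : G, g = 1 := fun g => by
        have hb : commutator G = ⊥ := le_bot_iff.mp (by simpa using hv)
        have h := humax g (show commutator G ≤ zpowers g by rw [hb]; exact bot_le)
        rw [one_pow, orderOf_one] at h
        exact orderOf_eq_one_iff.mp (le_antisymm h (orderOf_pos g))
      exact ⟨⟨1, fun g => ⟨0, (hall g).symm ▸ by simp⟩⟩⟩
    · obtain ⟨e, he⟩ := (IsPGroup.iff_orderOf (p := p)).mp hG v
      have he0 : e ≠ 0 := fun h => hv1 (orderOf_eq_one_iff.mp (by rw [he, h, pow_zero]))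
      have h := humax v hv
      rw [orderOf_pow' v hp.ne_zero, he, show e = e - 1 + 1 by omega, pow_succ, Nat.gcd_mul_left_left,
        Nat.mul_div_cancel _ hp.pos] at h
      exact absurd h (not_le.mpr (lt_mul_of_one_lt_right (pow_pos hp.pos _) hp.one_lt))
  have : (zpowers u).Normal := Normal.of_commutator_le G hu
  have hMtop : frattini G ⊔ zpowers u ≠ ⊤ := by
    intro h
    exact hnc (isCyclic_iff_exists_zpowers_eq_top.mpr ⟨u, frattini_nongenerating (by rw [sup_comm, h])⟩)
  obtain ⟨b, -, hb⟩ := SetLike.exists_of_lt (lt_top_iff_ne_top.mpr hMtop)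
  refine isMetacyclic_of_sup (N := zpowers u) inferInstance b (frattini_nongenerating ?_)
  rw [sup_comm, ← sup_assoc]
  refine eq_top_of_le_card _ ?_
  rw [PGroup.card_sup_zpowers_frattini hG le_sup_left hb, PGroup.card_sup_zpowers_frattini hG le_rfl huΦ,
    ← (frattini G).card_mul_index, hΦ, hidx]
  exact le_of_eq (by ring)

theorem isCyclic_subgroup_case {a b : G} (hgen : closure ({a, b} : Set G) = ⊤) (hG : IsPGroup p G)
    (hc : (⁅a, b⁆ : G) ∈ center G) (ha : a ^ p ∈ center G) : Nat.card (commutator G) ≤ p := by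
  have hn : (zpowers ⁅a, b⁆).Normal := ⟨fun w hw g => by
    rw [mem_center_iff.mp (zpowers_le.mpr hc hw) g, mul_inv_cancel_right]; exact hw⟩
  refine (card_le_of_le (commutator_le_of_gen (zpowers ⁅a, b⁆) hgen ?_)).trans ?_
  · rintro x hx y hy
    rcases hx with rfl | rfl <;> rcases hy with rfl | rfl
    · rw [commutatorElement_self]; exact one_mem _
    · exact mem_zpowers _
    · refine (Subgroup.inv_mem_iff _).mp ?_; rw [commutatorElement_inv]; exact mem_zpowers _
    · rw [commutatorElement_self]; exact one_mem _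
  · rw [Nat.card_zpowers]
    refine orderOf_le_of_pow_eq_one (Fact.out : p.Prime).pos ?_
    rw [← PGroup.commutator_pow_left hc, commutatorElement_eq_one_iff_mul_comm]
    exact (mem_center_iff.mp ha b).symm

section Cases

variable {E : Subgroup G} [E.Normal] {z : G} [(zpowers z).Normal]


theorem metacyclic_case (hG : IsPGroup p G) (hz : z ∈ center G) (hzo : orderOf z = p)
    (hzG : z ∈ commutator G) (hbig : p < Nat.card (commutator G)) (hQ : Cfsg.IsMetacyclic (G ⧸ zpowers z)) :
    Cfsg.IsMetacyclic G := by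
  have hp : p.Prime := Fact.out
  set q := QuotientGroup.mk' (zpowers z)
  have hq := QuotientGroup.mk'_surjective (zpowers z)
  obtain ⟨N', hN', hNc, hQc⟩ := hQ
  obtain ⟨a', ha'⟩ := (Subgroup.isCyclic_iff_exists_zpowers_eq_top N').mp hNc
  obtain ⟨a, rfl⟩ := hq a'
  obtain ⟨b'', hb''⟩ := isCyclic_iff_exists_zpowers_eq_top.mp hQc
  obtain ⟨b', rfl⟩ := QuotientGroup.mk'_surjective N' b''
  obtain ⟨b, rfl⟩ := hq b'
  set N := zpowers a ⊔ zpowers z
  have hN : N = N'.comap q := by
    rw [← ha', ← MonoidHom.map_zpowers, comap_map_eq, QuotientGroup.ker_mk']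
  have hNn : N.Normal := hN ▸ inferInstance
  have htop : N ⊔ zpowers b = ⊤ := by
    refine top_le_iff.mp fun g _ => ?_
    obtain ⟨i, hi⟩ : QuotientGroup.mk' N' (q g) ∈ zpowers (QuotientGroup.mk' N' (q b)) := hb'' ▸ mem_top _
    have hmem : g * (b ^ i)⁻¹ ∈ N := by
      rw [hN, mem_comap, map_mul, map_inv, map_zpow, ← QuotientGroup.eq_one_iff (N := N'),
        QuotientGroup.mk_mul, QuotientGroup.mk_inv, QuotientGroup.mk_zpow, mul_inv_eq_one]
      exact hi.symm
    rw [show g = g * (b ^ i)⁻¹ * b ^ i by group]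
    exact mul_mem (mem_sup_left hmem) (mem_sup_right (zpow_mem (mem_zpowers b) i))
  by_cases hza : z ∈ zpowers a
  · have hNeq : N = zpowers a := sup_eq_left.mpr (zpowers_le.mpr hza)
    exact isMetacyclic_of_sup (N := N) (hNeq ▸ inferInstance) b htop
  exfalso
  have hcz : ∀ g : G, Commute g z := fun g => mem_center_iff.mp hz g
  obtain ⟨a₁, ha₁, z₁, hz₁, hab⟩ := mem_sup_of_normal_right.mp
    (hNn.conj_mem a (mem_sup_left (mem_zpowers a)) b)
  obtain ⟨r, rfl⟩ := mem_zpowers_iff.mp ha₁
  obtain ⟨j, rfl⟩ := mem_zpowers_iff.mp hz₁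
  set c := b * a * b⁻¹ * a⁻¹ with hc
  have hc' : c = a ^ (r - 1) * z ^ j := by
    rw [hc, ← hab, mul_assoc, ((hcz a).inv_left.zpow_right j).symm.eq, ← mul_assoc, zpow_sub_one]
  have hbc : b * c * b⁻¹ = c ^ r := by
    rw [hc', ((hcz (a ^ (r - 1))).zpow_right j).mul_zpow, ← zpow_mul, ← zpow_mul]
    calc b * (a ^ (r - 1) * z ^ j) * b⁻¹ = b * a ^ (r - 1) * (z ^ j * b⁻¹) := by group
      _ = (b * a ^ (r - 1) * b⁻¹) * z ^ j := by
          rw [← ((hcz b⁻¹).zpow_right j).eq]; group
      _ = (a ^ r * z ^ j) ^ (r - 1) * z ^ j := by rw [hab, conj_zpow]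
      _ = _ := by
          rw [((hcz (a ^ r)).zpow_right j).mul_zpow, ← zpow_mul, ← zpow_mul, mul_assoc, ← zpow_add,
            mul_comm r, show j * (r - 1) + j = j * r by ring]
  have hac : Commute a c := by
    rw [hc']; exact ((Commute.refl a).zpow_right _).mul_right ((hcz a).zpow_right j)
  have hgen : closure ({a, z, b} : Set G) = ⊤ := top_le_iff.mp (htop ▸ sup_le (sup_le
    (zpowers_le.mpr (subset_closure (by simp))) (zpowers_le.mpr (subset_closure (by simp))))
    (zpowers_le.mpr (subset_closure (by simp))))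
  have hKn : (zpowers c).Normal := by
    refine normalizer_eq_top_iff.mp (top_le_iff.mp (hgen ▸ (closure_le _).mpr ?_))
    have hfix : ∀ g, Commute g c → g ∈ normalizer ((zpowers c : Subgroup G) : Set G) := fun g hg =>
      mem_normalizer_of_conj_mem _ fun w hw => by
        obtain ⟨i, rfl⟩ := mem_zpowers_iff.mp hw
        rw [(hg.zpow_right i).eq, mul_inv_cancel_right]
        exact hw
    rintro g (rfl | rfl | rfl)
    · exact hfix _ hac
    · exact hfix _ (hcz c).symm
    · refine mem_normalizer_of_conj_mem _ fun w hw => ?_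
      obtain ⟨i, rfl⟩ := mem_zpowers_iff.mp hw
      rw [← conj_zpow, hbc]
      exact zpow_mem (zpow_mem (mem_zpowers c) r) i
  have hle : commutator G ≤ zpowers c := by
    refine commutator_le_of_gen (zpowers c) hgen ?_
    have hzc : ∀ g : G, ⁅g, z⁆ = 1 ∧ ⁅z, g⁆ = 1 := fun g =>
      ⟨commutatorElement_eq_one_iff_mul_comm.mpr (hcz g).eq,
        commutatorElement_eq_one_iff_mul_comm.mpr (hcz g).symm.eq⟩
    have hba : ⁅b, a⁆ = c := by rw [commutatorElement_def, hc]
    intro x hx y hy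
    rcases hy with rfl | rfl | rfl
    rotate_left
    · rw [(hzc x).1]; exact one_mem _
    · rcases hx with rfl | rfl | rfl
      · rw [← commutatorElement_inv, hba]; exact inv_mem (mem_zpowers _)
      · rw [(hzc _).2]; exact one_mem _
      · rw [commutatorElement_self]; exact one_mem _
    · rcases hx with rfl | rfl | rfl
      · rw [commutatorElement_self]; exact one_mem _
      · rw [(hzc _).2]; exact one_mem _
      · rw [hba]; exact mem_zpowers _
  obtain ⟨i, hi⟩ := mem_zpowers_iff.mp (hle hzG)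
  rw [hc', ((hcz (a ^ (r - 1))).zpow_right j).mul_zpow, ← zpow_mul, ← zpow_mul] at hi
  have hpz : (p : ℤ) ∣ 1 - j * i := by
    have hmem : z ^ (1 - j * i) ∈ zpowers a := by
      refine mem_zpowers_iff.mpr ⟨(r - 1) * i, ?_⟩
      rw [zpow_sub, zpow_one, eq_mul_inv_iff_mul_eq]
      exact hi
    by_contra hnd
    refine hza ?_
    obtain ⟨s, t, hst⟩ := (((Nat.prime_iff_prime_int.mp hp).coprime_iff_not_dvd).mpr hnd)
    have : z = (z ^ (1 - j * i)) ^ t := by
      calc z = z ^ (s * p + t * (1 - j * i)) := by rw [hst, zpow_one]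
        _ = _ := by
          rw [zpow_add, mul_comm s, zpow_mul, zpow_natCast, ← hzo, pow_orderOf_eq_one, one_zpow, one_mul,
            mul_comm t, zpow_mul]
    rw [this]
    exact zpow_mem hmem t
  have hzji : z ^ (j * i) = z := by
    have : z ^ (1 - j * i) = 1 := orderOf_dvd_iff_zpow_eq_one.mp (by rwa [hzo])
    rw [zpow_sub, zpow_one, mul_inv_eq_one] at this
    exact this.symm
  rw [hzji, mul_eq_right, zpow_mul] at hi
  have ha1 : a ^ (r - 1) = 1 := by
    by_contra hne
    obtain ⟨e, he⟩ := (IsPGroup.iff_orderOf (p := p)).mp hG (a ^ (r - 1))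
    have he0 : e ≠ 0 := fun h => hne (orderOf_eq_one_iff.mp (by rw [he, h, pow_zero]))
    have hdi : (p : ℤ) ∣ i := (Int.natCast_dvd_natCast.mpr (dvd_pow_self p he0)).trans
      (he ▸ orderOf_dvd_iff_zpow_eq_one.mpr hi)
    have h1 : (p : ℤ) ∣ 1 := by
      have h := dvd_add hpz (hdi.mul_left j)
      rwa [sub_add_cancel] at h
    exact hp.not_dvd_one (Int.natCast_dvd_natCast.mp (by simpa using h1))
  have : Nat.card (commutator G) ≤ p := by
    rw [← hzo, ← Nat.card_zpowers]
    refine card_le_of_le (hle.trans (zpowers_le.mpr ?_))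
    rw [hc', ha1, one_mul]
    exact zpow_mem (mem_zpowers z) j
  omega

end Cases


/-- The data of the inductive step: `z` has order `p` and lies in every nontrivial term of the series. -/
structure Step (G : Type u) [Group G] (p n : ℕ) (E : Subgroup G) (z : G) : Prop where
  p2 : p ≠ 2
  card : Nat.card G = p ^ n
  el : Cfsg.IsElementaryAbelian p E
  card2 : Nat.card E = p ^ 2
  hom : ∀ x : G, x ^ p = 1 → x ∈ E
  zc : z ∈ center G
  zo : orderOf z = p
  last : ∀ j : ℕ, (⊤ : Subgroup G).lowerCentralSeries j ≠ ⊥ → z ∈ (⊤ : Subgroup G).lowerCentralSeries j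
  big : p < Nat.card (commutator G)

namespace Step

variable {E : Subgroup G} {z : G} {n : ℕ} [(zpowers z).Normal]


theorem isPG (h : Step G p n E z) : IsPGroup p G := IsPGroup.of_card h.card

theorem zp (h : Step G p n E z) : z ^ p = 1 := by rw [← h.zo, pow_orderOf_eq_one]

theorem zE (h : Step G p n E z) : zpowers z ≤ E := zpowers_le.mpr (h.hom z h.zp)

theorem zcenter (h : Step G p n E z) : zpowers z ≤ center G := zpowers_le.mpr h.zc

theorem pow_eq_one_of_mem (h : Step G p n E z) {c : G} (hc : c ∈ zpowers z) : c ^ p = 1 :=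
  h.el.2 c (h.zE hc)

theorem comm_mem (_ : Step G p n E z) {a b : G} (hab : Commute ((QuotientGroup.mk' (zpowers z)) a) ((QuotientGroup.mk' (zpowers z)) b)) : ⁅a, b⁆ ∈ zpowers z :=
  (QuotientGroup.eq_one_iff _).mp ((map_commutatorElement (QuotientGroup.mk' (zpowers z)) a b).trans
    (commutatorElement_eq_one_iff_mul_comm.mpr hab.eq))

theorem lift (_ : Step G p n E z) {a b : G} (hab : (QuotientGroup.mk' (zpowers z)) a = (QuotientGroup.mk' (zpowers z)) b) : ∃ ζ ∈ zpowers z, a = b * ζ :=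
  ⟨b⁻¹ * a, by
    rw [← QuotientGroup.eq_one_iff]
    show (QuotientGroup.mk' (zpowers z)) (b⁻¹ * a) = 1
    rw [map_mul, map_inv, hab, inv_mul_cancel], by group⟩

theorem pow_mem_of_map (_ : Step G p n E z) {a : G} {m : ℕ} (ha : ((QuotientGroup.mk' (zpowers z)) a) ^ m = 1) : a ^ m ∈ zpowers z :=
  (QuotientGroup.eq_one_iff _).mp (by rw [← map_pow] at ha; exact ha)

theorem top_of_map (_ : Step G p n E z) (L : Subgroup G) (hz : z ∈ L) {S : Set (G ⧸ zpowers z)}
    (hS : closure S = ⊤) (hL : ∀ a ∈ S, a ∈ L.map (QuotientGroup.mk' (zpowers z))) : L = ⊤ := by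
  have h : L.map (QuotientGroup.mk' (zpowers z)) = ⊤ := top_le_iff.mp (hS ▸ (closure_le _).mpr hL)
  have h' := congrArg (comap (QuotientGroup.mk' (zpowers z))) h
  rwa [comap_map_eq_self (by rw [QuotientGroup.ker_mk']; exact zpowers_le.mpr hz), comap_top] at h'

theorem card_quotient (h : Step G p n E z) : Nat.card (G ⧸ zpowers z) = p ^ (n - 1) ∧ 1 ≤ n := by
  have hp : p.Prime := Fact.out
  have h1 := (zpowers z).card_mul_index
  rw [Nat.card_zpowers, h.zo, h.card, index_eq_card] at h1
  have hn : 1 ≤ n := by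
    rcases Nat.eq_zero_or_pos n with rfl | hn
    · rw [pow_zero] at h1
      exact absurd (Nat.eq_one_of_mul_eq_one_right h1) hp.one_lt.ne'
    · exact hn
  refine ⟨Nat.eq_of_mul_eq_mul_left hp.pos ?_, hn⟩
  rw [h1, ← pow_succ', Nat.sub_add_cancel hn]

theorem map_central [E.Normal] (h : Step G p n E z) {a : G} (ha : a ^ p = 1) :
    (QuotientGroup.mk' (zpowers z)) a ∈ center (G ⧸ zpowers z) := by
  have hp : p.Prime := Fact.out
  have : (E.map (QuotientGroup.mk' (zpowers z))).Normal := Normal.map inferInstance _ (QuotientGroup.mk'_surjective _)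
  have hc := card_comap_mk' (p := p) (Z := zpowers z) (by rw [Nat.card_zpowers, h.zo]) (E.map (QuotientGroup.mk' (zpowers z)))
  rw [comap_map_eq_self (by rw [QuotientGroup.ker_mk']; exact h.zE), h.card2, sq] at hc
  exact PGroup.le_center_of_card_eq (h.isPG.to_quotient _) (E.map (QuotientGroup.mk' (zpowers z))) (Nat.eq_of_mul_eq_mul_right hp.pos hc).symm
    (mem_map_of_mem _ (h.hom a ha))

theorem class_two_absurd {k : ℕ} (h : Step G p n E z) (hn : n = k + 4) (hcl : commutator G ≤ center G)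
    {S : Set G} (hS : closure S = ⊤) (hc : ∀ a ∈ S, ∀ b ∈ S, ⁅a, b⁆ ^ p = 1) {w : G ⧸ zpowers z}
    (hw : w ^ p ^ k = 1) (hpow : ∀ a ∈ S, (QuotientGroup.mk' (zpowers z)) (a ^ p) ∈ zpowers w) : False := by
  have hp : p.Prime := Fact.out
  have hc' := commutator_pow_of_gen hcl hS hc
  have hidx := powHom_range h.p2 h.el h.card2 h.hom hcl hc'
  set φ := PGroup.powHom hp h.p2 hcl hc' with hφ
  have hle : φ.range ≤ (zpowers w).comap (QuotientGroup.mk' (zpowers z)) := by
    rw [MonoidHom.range_eq_map, ← hS, MonoidHom.map_closure, closure_le]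
    rintro _ ⟨a, ha, rfl⟩
    exact hpow a ha
  have h1 := card_le_of_le hle
  rw [card_comap_mk' (p := p) (by rw [Nat.card_zpowers, h.zo]), Nat.card_zpowers] at h1
  have h2 : orderOf w ≤ p ^ k := orderOf_le_of_pow_eq_one (pow_pos hp.pos k) hw
  have h3 := φ.range.card_mul_index
  rw [hidx, h.card, hn] at h3
  have h4 : p ^ (k + 4) ≤ p ^ (k + 3) :=
    calc p ^ (k + 4) = Nat.card φ.range * p ^ 2 := h3.symm
      _ ≤ p ^ k * p * p ^ 2 := Nat.mul_le_mul_right _ (h1.trans (Nat.mul_le_mul_right _ h2))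
      _ = p ^ (k + 3) := by ring
  have := (Nat.pow_le_pow_iff_right hp.one_lt).mp h4
  omega

theorem type_two_case [E.Normal] (h : Step G p n E z) (hQ : TypeTwo (G ⧸ zpowers z) p (n - 1)) :
    MaxThree G p n := by
  have hp : p.Prime := Fact.out
  obtain ⟨hm, x', y', d', hgen', hx', hy', hd', hxd, hyd, hxy⟩ := hQ
  obtain ⟨k, hn⟩ : ∃ k, n = k + 4 := ⟨n - 4, by omega⟩
  rw [show n - 1 - 2 = k + 1 by omega] at hd'
  rw [show n - 1 - 3 = k by omega] at hxy
  obtain ⟨X, rfl⟩ := QuotientGroup.mk'_surjective _ x'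
  obtain ⟨Y, rfl⟩ := QuotientGroup.mk'_surjective _ y'
  obtain ⟨D, rfl⟩ := QuotientGroup.mk'_surjective _ d'
  set S : Set G := {X⁻¹, Y, D, z} with hSdef
  have hS : closure S = ⊤ := by
    refine h.top_of_map _ (subset_closure (by simp [hSdef])) hgen' ?_
    rintro a (rfl | rfl | rfl)
    · exact ⟨X, by rw [← inv_inv X]; exact Subgroup.inv_mem _ (subset_closure (by simp [hSdef])), rfl⟩
    · exact ⟨Y, subset_closure (by simp [hSdef]), rfl⟩
    · exact ⟨D, subset_closure (by simp [hSdef]), rfl⟩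
  have hcomXY : (QuotientGroup.mk' (zpowers z)) ⁅X⁻¹, Y⁆ = ((QuotientGroup.mk' (zpowers z)) D) ^ p ^ k := by
    rw [map_commutatorElement, map_inv, commutatorElement_def, inv_inv, hxy,
      mul_assoc, ← (Commute.pow_right (hyd : Commute ((QuotientGroup.mk' (zpowers z)) Y) ((QuotientGroup.mk' (zpowers z)) D)) _).inv_left.eq, mul_inv_cancel_left]
  -- commutators of generators
  have hzc : ∀ g : G, ⁅z, g⁆ = 1 := fun g =>
    commutatorElement_eq_one_iff_mul_comm.mpr (mem_center_iff.mp h.zc g).symm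
  have hDS : ∀ a ∈ S, Commute ((QuotientGroup.mk' (zpowers z)) a) ((QuotientGroup.mk' (zpowers z)) D) := by
    rintro a (rfl | rfl | rfl | ha)
    · rw [map_inv]; exact (show Commute ((QuotientGroup.mk' (zpowers z)) X) ((QuotientGroup.mk' (zpowers z)) D) from hxd).inv_left
    · exact hyd
    · exact Commute.refl _
    · rw [ha, show (QuotientGroup.mk' (zpowers z)) z = 1 from (QuotientGroup.eq_one_iff z).mpr (mem_zpowers z)]; exact Commute.one_left _
  have hpairs : ∀ (P : G → Prop), (∀ c ∈ zpowers z, P c) → P ⁅X⁻¹, Y⁆ → P ⁅Y, X⁻¹⁆ →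
      ∀ a ∈ S, ∀ b ∈ S, P ⁅a, b⁆ := by
    intro P h1 h2 h3 a ha b hb
    by_cases haz : a = z
    · subst haz; rw [hzc]; exact h1 _ (one_mem _)
    by_cases hbz : b = z
    · subst hbz; rw [← commutatorElement_inv, hzc, inv_one]; exact h1 _ (one_mem _)
    by_cases had : a = D
    · subst had; exact h1 _ (h.comm_mem (hDS b hb).symm)
    by_cases hbd : b = D
    · subst hbd; exact h1 _ (h.comm_mem (hDS a ha))
    simp only [hSdef, Set.mem_insert_iff, Set.mem_singleton_iff, haz, had, or_false] at ha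
    simp only [hSdef, Set.mem_insert_iff, Set.mem_singleton_iff, hbz, hbd, or_false] at hb
    rcases ha with rfl | rfl <;> rcases hb with rfl | rfl
    · rw [commutatorElement_self]; exact h1 _ (one_mem _)
    · exact h2
    · exact h3
    · rw [commutatorElement_self]; exact h1 _ (one_mem _)
  have hYp : Y ^ p ∈ zpowers z := h.pow_mem_of_map hy'
  have habsurd : commutator G ≤ center G → False := by
    intro hcl
    have h2 : ⁅X⁻¹, Y⁆ ^ p = 1 := by
      rw [← PGroup.commutator_pow_right (PGroup.mem_center_of_class_two hcl _ _),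
        commutatorElement_eq_one_iff_mul_comm]
      exact mem_center_iff.mp (h.zcenter hYp) _
    refine h.class_two_absurd hn hcl hS (hpairs (fun c => c ^ p = 1) (fun c hc => h.pow_eq_one_of_mem hc) h2
      (by rw [← commutatorElement_inv, inv_pow, h2, inv_one])) (w := ((QuotientGroup.mk' (zpowers z)) D) ^ p) ?_ ?_
    · rw [← pow_mul, ← pow_succ', hd']
    · rintro a (rfl | rfl | rfl | ha)
      · rw [map_pow, map_inv, inv_pow, hx', inv_one]; exact one_mem _
      · rw [map_pow, hy']; exact one_mem _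
      · rw [map_pow]; exact mem_zpowers _
      · rw [map_pow, ha, show (QuotientGroup.mk' (zpowers z)) z = 1 from (QuotientGroup.eq_one_iff z).mpr (mem_zpowers z), one_pow]
        exact one_mem _
  rcases Nat.eq_zero_or_pos k with rfl | hk
  swap
  · -- class two
    exfalso
    refine habsurd (commutator_le_of_gen _ hS ?_)
    have hw : D ^ p ^ k ∈ center G := by
      rw [mem_center_iff]
      intro g
      have hle : closure S ≤ centralizer ({D ^ p ^ k} : Set G) := by
        rw [closure_le]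
        intro a ha
        refine mem_centralizer_singleton_iff.mpr ?_
        have hm := h.comm_mem (hDS a ha).symm
        refine (commutatorElement_eq_one_iff_mul_comm.mp ?_).symm
        rw [PGroup.commutator_pow_left (h.zcenter hm),
          pow_choose_eq_one (h.pow_eq_one_of_mem hm) (dvd_pow_self p hk.ne')]
      exact mem_centralizer_singleton_iff.mp (hle (hS ▸ mem_top g))
    obtain ⟨ζ, hζ, he⟩ := h.lift (hcomXY.trans (map_pow (QuotientGroup.mk' (zpowers z)) D _).symm)
    have h2 : ⁅X⁻¹, Y⁆ ∈ center G := he ▸ mul_mem hw (h.zcenter hζ)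
    exact hpairs (fun c => c ∈ center G) (fun c hc => h.zcenter hc) h2
      (by rw [← commutatorElement_inv]; exact inv_mem h2)
  by_cases hcl : commutator G ≤ center G
  · exact (habsurd hcl).elim
  by_cases hp3 : p = 3
  · refine ⟨hp3, by omega, fun hbot => hcl ?_⟩
    rw [show n - 2 = 1 + 1 by omega, Subgroup.lowerCentralSeries_succ, Subgroup.top_lowerCentralSeries_one] at hbot
    exact (PGroup.class_two_iff).mpr hbot
  exfalso
  have hgt : 3 < p := by have := hp.two_le; have := h.p2; omega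
  -- the quotient has order `p^3`, exponent `p` and centre `⟨d'⟩`
  rw [zero_add, pow_one] at hd'
  rw [pow_zero, pow_one] at hxy hcomXY
  have hd'c : (QuotientGroup.mk' (zpowers z)) D ∈ center (G ⧸ zpowers z) := by
    rw [mem_center_iff]
    intro g
    have hle : closure ({(QuotientGroup.mk' (zpowers z)) X, (QuotientGroup.mk' (zpowers z)) Y, (QuotientGroup.mk' (zpowers z)) D} : Set (G ⧸ zpowers z)) ≤ centralizer ({(QuotientGroup.mk' (zpowers z)) D} : Set (G ⧸ zpowers z)) := by
      rw [closure_le]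
      rintro a (rfl | rfl | rfl) <;> refine mem_centralizer_singleton_iff.mpr ?_
      exacts [hxd, hyd, rfl]
    exact mem_centralizer_singleton_iff.mp (hle (hgen' ▸ mem_top g))
  have hdn : (zpowers ((QuotientGroup.mk' (zpowers z)) D)).Normal := ⟨fun w hw g => by
    rw [mem_center_iff.mp (zpowers_le.mpr hd'c hw) g, mul_inv_cancel_right]; exact hw⟩
  set N := (zpowers ((QuotientGroup.mk' (zpowers z)) D)).comap (QuotientGroup.mk' (zpowers z)) with hN
  have hG'N : commutator G ≤ N := commutator_le_of_gen N hS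
    (hpairs (fun c => c ∈ N) (fun c hc => by
      rw [hN, mem_comap, show (QuotientGroup.mk' (zpowers z)) c = 1 from (QuotientGroup.eq_one_iff c).mpr hc]; exact one_mem _)
      (by rw [hN, mem_comap, hcomXY]; exact mem_zpowers _)
      (by rw [hN, mem_comap, ← commutatorElement_inv, map_inv, hcomXY]; exact inv_mem (mem_zpowers _)))
  have hQcl : commutator (G ⧸ zpowers z) ≤ center (G ⧸ zpowers z) := by
    rw [_root_.commutator_def, ← map_top_of_surjective (QuotientGroup.mk' (zpowers z)) (QuotientGroup.mk'_surjective _), ← map_commutator,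
      ← _root_.commutator_def, map_le_iff_le_comap]
    exact hG'N.trans (comap_mono (zpowers_le.mpr hd'c))
  have hexp : ∀ g : G, g ^ p ∈ zpowers z := fun g => h.pow_mem_of_map
    (PGroup.pow_eq_one_of_mem_closure hp h.p2 hQcl (s := {(QuotientGroup.mk' (zpowers z)) X, (QuotientGroup.mk' (zpowers z)) Y, (QuotientGroup.mk' (zpowers z)) D})
      (by rintro a (rfl | rfl | rfl); exacts [hx', hy', hd']) (hgen' ▸ mem_top ((QuotientGroup.mk' (zpowers z)) g)))
  have hQna : ¬ IsMulCommutative (G ⧸ zpowers z) := fun hab => hcl (le_trans (fun c hc => by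
    rw [← QuotientGroup.eq_one_iff]
    have : (QuotientGroup.mk' (zpowers z)) c ∈ commutator (G ⧸ zpowers z) := by
      rw [_root_.commutator_def, ← map_top_of_surjective (QuotientGroup.mk' (zpowers z)) (QuotientGroup.mk'_surjective _), ← map_commutator,
        ← _root_.commutator_def]
      exact mem_map_of_mem _ hc
    rw [(commutator_eq_bot_iff _).mpr hab, mem_bot] at this
    exact this) h.zcenter)
  have hQG : IsPGroup p (G ⧸ zpowers z) := h.isPG.to_quotient _
  have hcen : Nat.card (center (G ⧸ zpowers z)) ≤ p := by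
    obtain ⟨a, ha⟩ := PGroup.card_eq_pow hQG (center (G ⧸ zpowers z))
    obtain ⟨b, hb⟩ := PGroup.index_eq_pow hQG (center (G ⧸ zpowers z))
    have hab := (center (G ⧸ zpowers z)).card_mul_index
    rw [ha, hb, h.card_quotient.1, ← pow_add] at hab
    have hab' := Nat.pow_right_injective hp.two_le hab
    rw [ha]
    by_contra hgt'
    have hb1 : b ≤ 1 := by
      have : ¬ a ≤ 1 := fun ha1 => hgt' ((Nat.pow_le_pow_right hp.pos ha1).trans (pow_one p).le)
      omega
    refine hQna ?_
    have : IsCyclic ((G ⧸ zpowers z) ⧸ center (G ⧸ zpowers z)) := by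
      rcases Nat.le_one_iff_eq_zero_or_eq_one.mp hb1 with rfl | rfl
      · have : Subsingleton ((G ⧸ zpowers z) ⧸ center (G ⧸ zpowers z)) :=
          (Nat.card_eq_one_iff_unique.mp (by rw [← index_eq_card, hb, pow_zero])).1
        exact inferInstance
      · exact isCyclic_of_prime_card (p := p) (by rw [← index_eq_card, hb, pow_one])
    exact ⟨⟨commutative_of_cyclic_center_quotient (QuotientGroup.mk' (center (G ⧸ zpowers z)))
      (by rw [QuotientGroup.ker_mk'])⟩⟩
  have hEmap : (E.map (QuotientGroup.mk' (zpowers z))) = center (G ⧸ zpowers z) := by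
    refine eq_of_le_of_card_ge ?_ ?_
    · rintro _ ⟨e, he, rfl⟩; exact h.map_central (h.el.2 e he)
    · have hc := card_comap_mk' (p := p) (Z := zpowers z) (by rw [Nat.card_zpowers, h.zo]) (E.map (QuotientGroup.mk' (zpowers z)))
      rw [comap_map_eq_self (by rw [QuotientGroup.ker_mk']; exact h.zE), h.card2, sq] at hc
      exact hcen.trans (Nat.eq_of_mul_eq_mul_right hp.pos hc).le
  have hG'E : commutator G ≤ E := by
    refine hG'N.trans ?_
    rw [hN, ← comap_map_eq_self (f := (QuotientGroup.mk' (zpowers z))) (H := E) (by rw [QuotientGroup.ker_mk']; exact h.zE), hEmap]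
    exact comap_mono (zpowers_le.mpr hd'c)
  obtain ⟨e₀, he₀, he₀c⟩ : ∃ e ∈ E, e ∉ center G := by
    by_contra hh
    push Not at hh
    exact hcl fun c hc => hh c (hG'E hc)
  obtain ⟨x, hx⟩ : ∃ x : G, ¬ Commute x e₀ := by
    by_contra hh
    push Not at hh
    exact he₀c (mem_center_iff.mpr fun g => (hh g).eq)
  have hcomE : ∀ g : G, ⁅g, e₀⁆ ∈ E ∧ ⁅g, e₀⁆ ∈ center G := fun g =>
    commutator_mem_center h.isPG h.card2 he₀ g
  set φ := PGroup.commHom (⊤ : Subgroup G) e₀ (fun g _ => (hcomE g).2) with hφ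
  have hrange : Nat.card φ.range * p ≤ p ^ 2 := by
    have hlt : E ⊓ center G < E := lt_of_le_of_ne inf_le_left fun e => he₀c ((e.ge he₀).2)
    have h1 := PGroup.mul_card_le_card h.isPG hlt
    rw [h.card2, mul_comm] at h1
    refine le_trans (Nat.mul_le_mul_right _ ?_) h1
    refine Nat.card_le_card_of_injective (fun w => (⟨((w : center G) : G), ?_, (w : center G).2⟩ : ↥(E ⊓ center G))) ?_
    · obtain ⟨g, hg⟩ := w.2
      rw [← hg, hφ, PGroup.commHom_apply]
      exact (hcomE g).1
    · intro a b hab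
      exact Subtype.ext (Subtype.ext (congrArg (fun t : ↥(E ⊓ center G) => (t : G)) hab))
  obtain ⟨y, hyk, hyE⟩ : ∃ y : G, Commute y e₀ ∧ y ∉ E := by
    by_contra hh
    push Not at hh
    have hker : Nat.card φ.ker ≤ p ^ 2 := by
      rw [← h.card2]
      refine Nat.card_le_card_of_injective (fun w => (⟨((w : (⊤ : Subgroup G)) : G), hh _ ?_⟩ : E)) ?_
      · refine commutatorElement_eq_one_iff_mul_comm.mp ?_
        exact (PGroup.commHom_apply (⊤ : Subgroup G) e₀ _ _).symm.trans (congrArg Subtype.val w.2)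
      · intro a b hab
        exact Subtype.ext (Subtype.ext (congrArg (fun t : E => (t : G)) hab))
    have h1 := φ.ker.card_mul_index
    rw [index_ker, card_top, h.card, hn] at h1
    have h2 : p ^ (0 + 4) * p ≤ p ^ 4 :=
      calc p ^ (0 + 4) * p = Nat.card φ.ker * (Nat.card φ.range * p) := by rw [← h1]; ring
        _ ≤ p ^ 2 * p ^ 2 := Nat.mul_le_mul hker hrange
        _ = p ^ 4 := by ring
    rw [← pow_succ] at h2
    have := (Nat.pow_le_pow_iff_right hp.one_lt).mp h2
    omega
  have hzE2 : zpowers z ⊔ zpowers e₀ = E := by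
    refine eq_of_le_of_card_ge (sup_le h.zE (zpowers_le.mpr he₀)) ?_
    rw [PGroup.card_sup_zpowers (p := p) _ (fun hh => he₀c (h.zcenter hh))
      (by rw [h.el.2 e₀ he₀]; exact one_mem _), Nat.card_zpowers, h.zo, h.card2, sq]
  have hycent : ∀ e ∈ E, Commute y e := by
    have hle : zpowers z ⊔ zpowers e₀ ≤ centralizer ({y} : Set G) := sup_le
      (zpowers_le.mpr (mem_centralizer_singleton_iff.mpr (mem_center_iff.mp h.zc y).symm))
      (zpowers_le.mpr (mem_centralizer_singleton_iff.mpr hyk.symm.eq))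
    rw [hzE2] at hle
    exact fun e he => (mem_centralizer_singleton_iff.mp (hle he)).symm
  have hyp1 : y ^ p ≠ 1 := fun e => hyE (h.hom y e)
  obtain ⟨j, hj⟩ : ∃ j : ℕ, (y ^ p) ^ j = (x ^ p)⁻¹ := exists_npow (by
    rw [show zpowers (y ^ p) = zpowers z from eq_of_le_of_card_ge (zpowers_le.mpr (hexp y))
      (by rw [Nat.card_zpowers, Nat.card_zpowers, h.zo, orderOf_eq_prime (h.pow_eq_one_of_mem (hexp y)) hyp1])]
    exact inv_mem (hexp x))
  set d := x * y ^ j * x⁻¹ * (y ^ j)⁻¹ with hd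
  have hdE : d ∈ E := hG'E (commutator_mem_commutator (mem_top x) (mem_top (y ^ j)))
  obtain ⟨huE, huc⟩ := commutator_mem_center h.isPG h.card2 hdE x
  have hf := mul_pow_formula (a := y ^ j) (x := x) (d := d) (e := x * d * x⁻¹ * d⁻¹)
    ((hycent d hdE).pow_left j) (mem_center_iff.mp huc d)
    (by rw [hd]; group) (by group) (by rw [mem_center_iff.mp huc x, mul_inv_cancel_right]) p
  rw [pow_choose_eq_one (h.el.2 d hdE) (dvd_choose_two hp h.p2),
    pow_choose_eq_one (h.el.2 _ huE) (dvd_choose_three hp hgt), mul_one, mul_one, ← pow_mul, mul_comm j,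
    pow_mul, hj, inv_mul_cancel] at hf
  have hmem := h.hom _ hf
  have hc1 : Commute (y ^ j * x) e₀ :=
    PGroup.mul_comm_of_elementaryAbelian h.el hmem he₀
  refine hx ?_
  have := ((hyk.pow_left j).inv_left).mul_left hc1
  rwa [inv_mul_cancel_left] at this

theorem type_three_case [E.Normal] (h : Step G p n E z) (hQ : TypeThree (G ⧸ zpowers z) p (n - 1)) :
    MaxThree G p n := by
  have hp : p.Prime := Fact.out
  obtain ⟨hm, s, x', y', g', hs, hgen', hx', hy', hg', hyg, hxy, hxg⟩ := hQ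
  obtain ⟨k, hn⟩ : ∃ k, n = k + 4 := ⟨n - 4, by omega⟩
  have hk : 1 ≤ k := by omega
  rw [show n - 1 - 2 = k + 1 by omega] at hg'
  rw [show n - 1 - 3 = k by omega] at hxy
  have hps : ¬ p ∣ s := by
    rcases hs with rfl | hs
    · exact hp.not_dvd_one
    · exact fun hd => hs ⟨0, by rw [(ZMod.natCast_eq_zero_iff s p).mpr hd, mul_zero]⟩
  set w' := g' ^ p ^ k with hw'
  have hw'p : w' ^ p = 1 := by rw [hw', ← pow_mul, ← pow_succ, hg']
  rw [mul_comm s, pow_mul, ← hw'] at hxy
  have hw'1 : w' ≠ 1 := by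
    intro hw1
    rw [hw1, one_pow, mul_one] at hxy
    have hyx : Commute y' x' := by
      rw [mul_assoc, inv_mul_eq_iff_eq_mul] at hxy
      exact hxy
    have hyc : y' ∈ center (G ⧸ zpowers z) := by
      rw [mem_center_iff]
      intro a
      have hle : closure ({x', y', g'} : Set (G ⧸ zpowers z)) ≤ centralizer ({y'} : Set (G ⧸ zpowers z)) := by
        rw [closure_le]
        rintro b (rfl | rfl | rfl) <;> refine mem_centralizer_singleton_iff.mpr ?_
        exacts [hyx.symm.eq, rfl, hyg.symm]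
      exact mem_centralizer_singleton_iff.mp (hle (hgen' ▸ mem_top a))
    have hNn : (zpowers y').Normal := ⟨fun w hw g => by
      rw [mem_center_iff.mp (zpowers_le.mpr hyc hw) g, mul_inv_cancel_right]; exact hw⟩
    set A := zpowers y' ⊔ zpowers g' with hA
    have hgA : g' ∈ A := mem_sup_right (mem_zpowers g')
    have hyA : y' ∈ A := mem_sup_left (mem_zpowers y')
    have hxinv : x'⁻¹ ∈ normalizer (A : Set (G ⧸ zpowers z)) := by
      refine mem_normalizer_of_conj_mem _ fun a ha => ?_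
      have hle : A ≤ A.comap (MulAut.conj x'⁻¹).toMonoidHom := by
        refine sup_le (zpowers_le.mpr ?_) (zpowers_le.mpr ?_)
        · simpa [mem_comap, hxy] using hyA
        · simpa [mem_comap, hxg] using mul_mem hyA hgA
      simpa [mem_comap] using hle ha
    have hAn : A.Normal := normalizer_eq_top_iff.mp (top_le_iff.mp (hgen' ▸ (closure_le _).mpr (by
      rintro b (rfl | rfl | rfl)
      · rw [← inv_inv b]; exact inv_mem hxinv
      · exact le_normalizer hyA
      · exact le_normalizer hgA)))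
    have h1 := card_sup_mul_card_inf A (zpowers x')
    have h2 := card_sup_mul_card_inf (zpowers y') (zpowers g')
    rw [← hA, Nat.card_zpowers, Nat.card_zpowers] at h2
    have htop : A ⊔ zpowers x' = ⊤ := top_le_iff.mp (hgen' ▸ (closure_le _).mpr (by
      rintro b (rfl | rfl | rfl)
      · exact mem_sup_right (mem_zpowers b)
      · exact mem_sup_left hyA
      · exact mem_sup_left hgA))
    rw [htop, card_top, h.card_quotient.1, Nat.card_zpowers] at h1
    have hAle : Nat.card A ≤ p * p ^ k := by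
      refine le_trans (Nat.le_mul_of_pos_right _ Nat.card_pos) (h2.le.trans ?_)
      exact Nat.mul_le_mul (orderOf_le_of_pow_eq_one hp.pos hy') (orderOf_le_of_pow_eq_one (pow_pos hp.pos k) hw1)
    have h3 : p ^ (n - 1) ≤ p ^ (k + 2) :=
      calc p ^ (n - 1) ≤ _ := Nat.le_mul_of_pos_right _ (Nat.card_pos (α := ↥(A ⊓ zpowers x')))
        _ = Nat.card A * orderOf x' := h1
        _ ≤ p * p ^ k * p := Nat.mul_le_mul hAle (orderOf_le_of_pow_eq_one hp.pos hx')
        _ = p ^ (k + 2) := by ring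
    have := (Nat.pow_le_pow_iff_right hp.one_lt).mp h3
    omega
  have hw's : ∀ t : ℕ, w' ^ (s * t) = 1 → p ∣ t := fun t ht =>
    ((hp.dvd_mul).mp ((pow_eq_one_iff_dvd hw'p hw'1 _).mp ht)).resolve_left hps
  obtain ⟨X, rfl⟩ := QuotientGroup.mk'_surjective _ x'
  obtain ⟨Y, rfl⟩ := QuotientGroup.mk'_surjective _ y'
  obtain ⟨Gg, rfl⟩ := QuotientGroup.mk'_surjective _ g'
  set m := p ^ k with hm'
  set W := Gg ^ m with hW
  set u := X⁻¹ with hu
  have hqW : (QuotientGroup.mk' (zpowers z)) W = w' := by rw [hW, map_pow, hw']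
  have hzc : ∀ {c : G}, c ∈ zpowers z → ∀ g : G, Commute g c := fun hc g => mem_center_iff.mp (h.zcenter hc) g
  have hpm : p ∣ m := dvd_pow_self p (by omega)
  have hYGg : ⁅Gg, Y⁆ ∈ zpowers z := h.comm_mem (hyg : Commute ((QuotientGroup.mk' (zpowers z)) Y) ((QuotientGroup.mk' (zpowers z)) Gg)).symm
  have hYW : Commute Y W := by
    refine (commutatorElement_eq_one_iff_mul_comm.mp ?_ : Commute W Y).symm
    rw [hW, PGroup.commutator_pow_left (h.zcenter hYGg), pow_choose_eq_one (h.pow_eq_one_of_mem hYGg) hpm]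
  have hYp : Y ^ p ∈ zpowers z := h.pow_mem_of_map hy'
  have hYne : ∀ a : G, (∃ t : ℕ, ¬ p ∣ t ∧ (QuotientGroup.mk' (zpowers z)) a = ((QuotientGroup.mk' (zpowers z)) Y) ^ t * w' ^ 0) → a ^ p ≠ 1 := by
    rintro a ⟨t, ht, hqa⟩ hap
    have hcen := mem_center_iff.mp (h.map_central hap) ((QuotientGroup.mk' (zpowers z)) X)⁻¹
    rw [hqa, pow_zero, mul_one] at hcen
    have h1 : ((QuotientGroup.mk' (zpowers z)) X)⁻¹ * ((QuotientGroup.mk' (zpowers z)) Y) ^ t * (QuotientGroup.mk' (zpowers z)) X = ((QuotientGroup.mk' (zpowers z)) Y) ^ t := by rw [hcen, inv_mul_cancel_right]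
    have h2 : ((QuotientGroup.mk' (zpowers z)) X)⁻¹ * ((QuotientGroup.mk' (zpowers z)) Y) ^ t * (QuotientGroup.mk' (zpowers z)) X = (((QuotientGroup.mk' (zpowers z)) X)⁻¹ * (QuotientGroup.mk' (zpowers z)) Y * (QuotientGroup.mk' (zpowers z)) X) ^ t := by
      simpa using (conj_pow (a := ((QuotientGroup.mk' (zpowers z)) X)⁻¹) (b := (QuotientGroup.mk' (zpowers z)) Y) (i := t)).symm
    rw [h2, hxy, (show Commute ((QuotientGroup.mk' (zpowers z)) Y) (w' ^ s) from by
      rw [← hqW, ← map_pow]; exact (hYW.pow_right s).map (QuotientGroup.mk' (zpowers z))).mul_pow, mul_eq_left, ← pow_mul] at h1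
    exact ht (hw's t h1)
  have hY1 : Y ^ p ≠ 1 := hYne Y ⟨1, hp.not_dvd_one, by simp⟩
  obtain ⟨ζ₁, hζ₁, huY⟩ : ∃ ζ ∈ zpowers z, u * Y * u⁻¹ = Y * W ^ s * ζ := by
    refine h.lift ?_
    simp only [hu, map_mul, map_inv, inv_inv, map_pow, hqW]; exact hxy
  obtain ⟨ζ₂, hζ₂, huG⟩ : ∃ ζ ∈ zpowers z, u * Gg * u⁻¹ = Y * Gg * ζ := by
    refine h.lift ?_
    simp only [hu, map_mul, map_inv, inv_inv]; exact hxg
  have huW : u * W * u⁻¹ = Y ^ m * W := by
    rw [hW, ← conj_pow, huG, (hzc hζ₂ _).mul_pow, pow_choose_eq_one (h.pow_eq_one_of_mem hζ₂) hpm, mul_one,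
      PGroup.mul_pow_of_central (h.zcenter hYGg),
      pow_choose_eq_one (h.pow_eq_one_of_mem hYGg) (hp.dvd_choose_pow two_ne_zero ?_), mul_one]
    intro h2
    have := h.p2
    have h3 : p ≤ 2 := h2 ▸ Nat.le_of_dvd (pow_pos hp.pos k) (dvd_pow_self p (by omega))
    have := hp.two_le
    omega
  have hYm : Y ^ m ∈ zpowers z := by
    obtain ⟨c, hc⟩ := hpm
    rw [hc, pow_mul]; exact pow_mem hYp c
  have hWp : W ^ p = 1 := by
    have hWz : W ^ p ∈ zpowers z := h.pow_mem_of_map (by rw [hqW, hw'p])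
    have hYgen : zpowers (Y ^ p) = zpowers z := eq_of_le_of_card_ge (zpowers_le.mpr hYp)
      (by rw [Nat.card_zpowers, Nat.card_zpowers, h.zo, orderOf_eq_prime (h.pow_eq_one_of_mem hYp) hY1])
    obtain ⟨t, ht⟩ := exists_npow (hYgen ▸ hWz)
    by_cases hpt : p ∣ t
    · rw [← ht, pow_choose_eq_one (h.pow_eq_one_of_mem hYp) hpt]
    exfalso
    have hap : (W * (Y ^ t)⁻¹) ^ p = 1 := by
      rw [((hYW.symm).pow_right t).inv_right.mul_pow, inv_pow,
        show (Y ^ t) ^ p = W ^ p by rw [← ht, ← pow_mul, ← pow_mul, mul_comm], mul_inv_cancel]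
    have hcen := mem_center_iff.mp (h.map_central hap) ((QuotientGroup.mk' (zpowers z)) u)
    have h1 : (QuotientGroup.mk' (zpowers z)) (u * (W * (Y ^ t)⁻¹) * u⁻¹) = (QuotientGroup.mk' (zpowers z)) (W * (Y ^ t)⁻¹) := by
      rw [map_mul, map_mul, hcen, mul_assoc, ← map_mul (QuotientGroup.mk' (zpowers z)) u, mul_inv_cancel, map_one, mul_one]
    have h2 : u * (W * (Y ^ t)⁻¹) * u⁻¹ = (u * W * u⁻¹) * ((u * Y * u⁻¹) ^ t)⁻¹ := by
      rw [conj_pow]; group
    have hYm1 : ((QuotientGroup.mk' (zpowers z)) Y) ^ m = 1 := by rw [← map_pow]; exact (QuotientGroup.eq_one_iff _).mpr hYm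
    rw [h2, huW, huY] at h1
    simp only [map_mul, map_inv, map_pow, hYm1,
      show (QuotientGroup.mk' (zpowers z)) ζ₁ = 1 from (QuotientGroup.eq_one_iff _).mpr hζ₁, one_mul, mul_one] at h1
    have h3 := inv_inj.mp (mul_left_cancel h1)
    rw [(show Commute ((QuotientGroup.mk' (zpowers z)) Y) (((QuotientGroup.mk' (zpowers z)) W) ^ s) from by rw [← map_pow]; exact (hYW.pow_right s).map (QuotientGroup.mk' (zpowers z))).mul_pow,
      mul_eq_left, ← pow_mul, hqW] at h3
    exact hpt (hw's t h3)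
  have hm_one : 2 ≤ k → Y ^ m = 1 := fun hk2 => by
    obtain ⟨c, hc⟩ := pow_dvd_pow p hk2
    rw [hm', hc, pow_mul, sq, pow_mul Y p p, h.pow_eq_one_of_mem hYp, one_pow]
  have hneW : W ^ s ∉ center G ∨ 2 ≤ k := by
    rcases Nat.lt_or_ge k 2 with hk2 | hk2
    swap
    · exact Or.inr hk2
    refine Or.inl fun hc => ?_
    have hk1 : k = 1 := by omega
    obtain ⟨l, hl⟩ := mem_zpowers_of_pow_notDvd hp hWp hps
    have hWc : W ∈ center G := by rw [← hl, pow_mul]; exact pow_mem hc l
    rw [(mem_center_iff.mp hWc u), mul_inv_cancel_right, right_eq_mul, hm', hk1, pow_one] at huW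
    exact hY1 huW
  by_cases hMC : k = 1 ∧ p = 3
  · obtain ⟨hk1, hp3⟩ := hMC
    refine ⟨hp3, by omega, fun hbot => ?_⟩
    rw [show n - 2 = 2 + 1 by omega] at hbot
    have hγ1 : γ 1 = commutator G := Subgroup.top_lowerCentralSeries_one
    have hcomm : ∀ a b : G, a * b * a⁻¹ * b⁻¹ ∈ commutator G := fun a b =>
      commutator_mem_commutator (mem_top a) (mem_top b)
    have hne1 : γ 1 ≠ ⊥ := fun e => absurd h.big (by
      rw [← hγ1, e, card_bot]; exact not_lt.mpr hp.one_lt.le)
    have hY1m : Y ∈ γ 1 := by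
      have hz1 : ζ₂ ∈ γ 1 := zpowers_le.mpr (h.last 1 hne1) hζ₂
      have := hcomm u Gg
      rw [huG, ← hγ1, mul_assoc Y Gg, hzc hζ₂ Gg, ← mul_assoc, mul_inv_cancel_right] at this
      exact (Subgroup.mul_mem_cancel_right _ hz1).mp this
    have h2mem : ∀ a b : G, b ∈ γ 1 → a * b * a⁻¹ * b⁻¹ ∈ γ 2 := fun a b hb => by
      rw [show (2 : ℕ) = 1 + 1 from rfl, Subgroup.lowerCentralSeries_succ, Subgroup.commutator_comm]
      exact commutator_mem_commutator (mem_top a) hb
    have hWs : W ^ s * ζ₁ ∈ γ 2 := by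
      have := h2mem u Y hY1m
      rwa [huY, mul_assoc Y, ((hYW.pow_right s).mul_right (hzc hζ₁ Y)).eq, mul_inv_cancel_right] at this
    have hne2 : γ 2 ≠ ⊥ := fun e => by
      rw [e, mem_bot] at hWs
      refine hneW.elim (fun hn' => hn' ?_) (by omega)
      rw [eq_inv_of_mul_eq_one_left hWs]
      exact inv_mem (h.zcenter hζ₁)
    have hW2 : W ∈ γ 2 := by
      have hs2 : W ^ s ∈ γ 2 := (Subgroup.mul_mem_cancel_right _ (zpowers_le.mpr (h.last 2 hne2) hζ₁)).mp hWs
      obtain ⟨l, hl⟩ := mem_zpowers_of_pow_notDvd hp hWp hps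
      rw [← hl, pow_mul]; exact pow_mem hs2 l
    have hY3 : u * W * u⁻¹ * W⁻¹ ∈ γ (2 + 1) := by
      rw [Subgroup.lowerCentralSeries_succ, Subgroup.commutator_comm]
      exact commutator_mem_commutator (mem_top u) hW2
    rw [huW, mul_inv_cancel_right, hbot, mem_bot, hm', hk1, pow_one] at hY3
    exact hY1 hY3
  exfalso
  set d₁ := W ^ s * ζ₁ with hd₁
  have hd₁p : d₁ ^ p = 1 := by
    rw [hd₁, (hzc hζ₁ _).mul_pow, h.pow_eq_one_of_mem hζ₁, mul_one, ← pow_mul, mul_comm, pow_mul, hWp, one_pow]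
  have hYd : Commute Y d₁ := (hYW.pow_right s).mul_right (hzc hζ₁ Y)
  have hup : u ^ p ∈ zpowers z := by
    rw [hu, inv_pow]; exact inv_mem (h.pow_mem_of_map hx')
  obtain ⟨j, hj⟩ : ∃ j : ℕ, (Y ^ p) ^ j = (u ^ p)⁻¹ := exists_npow (by
    rw [show zpowers (Y ^ p) = zpowers z from eq_of_le_of_card_ge (zpowers_le.mpr hYp)
      (by rw [Nat.card_zpowers, Nat.card_zpowers, h.zo, orderOf_eq_prime (h.pow_eq_one_of_mem hYp) hY1])]
    exact inv_mem hup)
  have hh1 : u * Y ^ j * u⁻¹ = d₁ ^ j * Y ^ j := by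
    rw [← conj_pow, huY, mul_assoc, ← hd₁, hYd.mul_pow, (hYd.pow_pow j j).eq]
  have hh2 : u * d₁ ^ j * u⁻¹ = (Y ^ m) ^ (s * j) * d₁ ^ j := by
    have h1 : u * d₁ * u⁻¹ = (Y ^ m) ^ s * d₁ := by
      calc u * d₁ * u⁻¹ = (u * W * u⁻¹) ^ s * (u * ζ₁ * u⁻¹) := by rw [hd₁, conj_pow]; group
        _ = _ := by
          rw [huW, (hYW.pow_left m).mul_pow, (hzc hζ₁ u).eq, mul_inv_cancel_right, hd₁, mul_assoc]
    rw [← conj_pow, h1, ((hzc (pow_mem hYm s) d₁).symm).mul_pow, ← pow_mul]
  have hf := mul_pow_formula (a := Y ^ j) (x := u) (d := d₁ ^ j) (e := (Y ^ m) ^ (s * j))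
    (hYd.pow_pow j j) (hzc (pow_mem hYm _) _) hh1 hh2
    (by rw [(hzc (pow_mem hYm _) u).eq, mul_inv_cancel_right]) p
  have he : ((Y ^ m) ^ (s * j)) ^ p.choose 3 = 1 := by
    rcases Nat.lt_or_ge k 2 with hk2 | hk2
    · refine pow_choose_eq_one (h.pow_eq_one_of_mem (pow_mem hYm _)) (dvd_choose_three hp ?_)
      have := hp.two_le; have := h.p2
      by_contra hle
      exact hMC ⟨by omega, by omega⟩
    · rw [hm_one hk2, one_pow, one_pow]
  rw [he, mul_one, pow_choose_eq_one (by rw [← pow_mul, mul_comm, pow_mul, hd₁p, one_pow])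
    (dvd_choose_two hp h.p2), mul_one, ← pow_mul, mul_comm j, pow_mul, hj, inv_mul_cancel] at hf
  have hcen := h.map_central hf
  have hqY : Commute ((QuotientGroup.mk' (zpowers z)) Y) (((QuotientGroup.mk' (zpowers z)) Y) ^ j * (QuotientGroup.mk' (zpowers z)) u) := mem_center_iff.mp (by rwa [map_mul, map_pow] at hcen) ((QuotientGroup.mk' (zpowers z)) Y)
  have hqu : Commute ((QuotientGroup.mk' (zpowers z)) Y) ((QuotientGroup.mk' (zpowers z)) u) := by
    have := ((Commute.refl ((QuotientGroup.mk' (zpowers z)) Y)).pow_right j).inv_right.mul_right hqY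
    rwa [inv_mul_cancel_left] at this
  have h1 : (QuotientGroup.mk' (zpowers z)) (u * Y * u⁻¹) = (QuotientGroup.mk' (zpowers z)) Y := by
    rw [map_mul, map_mul, hqu.symm.eq, mul_assoc, ← map_mul (QuotientGroup.mk' (zpowers z)) u, mul_inv_cancel, map_one, mul_one]
  rw [huY, map_mul, map_mul, show (QuotientGroup.mk' (zpowers z)) ζ₁ = 1 from (QuotientGroup.eq_one_iff _).mpr hζ₁, mul_one,
    mul_eq_left, map_pow, hqW] at h1
  exact hp.not_dvd_one (hw's 1 (by rwa [mul_one]))

theorem max_three_case [E.Normal] (h : Step G p n E z) (hnc : ¬ IsCyclic G)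
    (hQ : MaxThree (G ⧸ zpowers z) p (n - 1)) : MaxThree G p n := by
  have hp : p.Prime := Fact.out
  have hG := h.isPG
  obtain ⟨hp3, hm, hQγ⟩ := hQ
  refine ⟨hp3, by omega, fun hbot => ?_⟩
  have hidx := PGroup.sq_le_index_commutator (p := p) hG hnc
  have hcard := (commutator G).card_mul_index
  rw [h.card] at hcard
  have hn4 : 4 ≤ n := by
    by_contra hlt
    have h1 : (p + 1) * p ^ 2 ≤ p ^ n :=
      calc (p + 1) * p ^ 2 ≤ Nat.card (commutator G) * (commutator G).index := Nat.mul_le_mul h.big hidx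
        _ = p ^ n := hcard
    have h2 : p ^ n ≤ p * p ^ 2 := (Nat.pow_le_pow_right hp.pos (by omega : n ≤ 3)).trans (le_of_eq (by ring))
    nlinarith [hp.pos]
  rcases Nat.lt_or_ge n 5 with hn5 | hn5
  · -- order `p^4`
    have hn' : n = 4 := by omega
    rw [show n - 2 = 1 + 1 by omega, Subgroup.lowerCentralSeries_succ, Subgroup.top_lowerCentralSeries_one] at hbot
    have hcl : commutator G ≤ center G := PGroup.class_two_iff.mpr hbot
    obtain ⟨b, hb⟩ := PGroup.card_eq_pow hG (commutator G)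
    obtain ⟨c, hc⟩ := PGroup.index_eq_pow hG (commutator G)
    have hbc : b + c = 4 := by
      rw [hb, hc, hn', ← pow_add] at hcard
      exact Nat.pow_right_injective hp.two_le hcard
    have hb2 : 2 ≤ b := by
      by_contra hb'
      have := h.big
      rw [hb] at this
      exact absurd ((Nat.pow_le_pow_right hp.pos (by omega : b ≤ 1)).trans (pow_one p).le) (not_le.mpr this)
    have hc2 : c = 2 := by
      have hc2' : 2 ≤ c := (Nat.pow_le_pow_iff_right hp.one_lt).mp (by rw [← hc]; exact hidx)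
      omega
    have hΦ : frattini G = commutator G :=
      PGroup.frattini_eq_commutator_of_index_sq (p := p) hG hnc (by rw [hc, hc2])
    have hne : frattini G ≠ ⊤ := fun e => by
      rw [← hΦ, e, index_top, hc2] at hc
      exact absurd hc (Nat.one_lt_pow two_ne_zero hp.one_lt).ne
    obtain ⟨a, -, ha⟩ := SetLike.exists_of_lt (lt_top_iff_ne_top.mpr hne)
    have hne2 : frattini G ⊔ zpowers a ≠ ⊤ := fun e =>
      hnc (isCyclic_iff_exists_zpowers_eq_top.mpr ⟨a, frattini_nongenerating (by rw [sup_comm, e])⟩)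
    obtain ⟨b', -, hb'⟩ := SetLike.exists_of_lt (lt_top_iff_ne_top.mpr hne2)
    have hgen : closure ({a, b'} : Set G) = ⊤ := by
      refine frattini_nongenerating ?_
      refine eq_top_of_le_card _ ?_
      have hle : frattini G ⊔ zpowers a ⊔ zpowers b' ≤ closure ({a, b'} : Set G) ⊔ frattini G :=
        sup_le (sup_le le_sup_right (le_sup_of_le_left (zpowers_le.mpr (subset_closure (by simp)))))
          (le_sup_of_le_left (zpowers_le.mpr (subset_closure (by simp))))
      refine le_trans ?_ (card_le_of_le hle)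
      rw [PGroup.card_sup_zpowers_frattini hG le_sup_left hb', PGroup.card_sup_zpowers_frattini hG le_rfl ha,
        ← (frattini G).card_mul_index, hΦ, hc, hc2]
      exact le_of_eq (by ring)
    exact absurd (isCyclic_subgroup_case hgen hG (PGroup.mem_center_of_class_two hcl a b')
      (hcl (hΦ ▸ PGroup.pow_mem_frattini hG a))) (not_le.mpr h.big)
  -- order at least `p^5`
  obtain ⟨m, rfl⟩ : ∃ m, n = m + 5 := ⟨n - 5, by omega⟩
  rw [show m + 5 - 2 = m + 3 by omega] at hbot
  rw [show m + 5 - 1 - 2 = m + 2 by omega] at hQγ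
  have hQcard : Nat.card (G ⧸ zpowers z) = p ^ (m + 4) := h.card_quotient.1
  have hQG : IsPGroup p (G ⧸ zpowers z) := IsPGroup.of_card hQcard
  have := hQG.isNilpotent
  have hQcl : Group.nilpotencyClass (G ⧸ zpowers z) = m + 4 - 1 := by
    refine le_antisymm (Subgroup.lowerCentralSeries_eq_bot_iff_nilpotencyClass_le.mp
      (PGroup.lcs_eq_bot_of_card (r := m + 4) (by omega) hQcard)) ?_
    by_contra hlt
    exact hQγ (Subgroup.lowerCentralSeries_eq_bot_iff_nilpotencyClass_le.mpr (by omega))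
  have hmap : ∀ i, ((⊤ : Subgroup G).lowerCentralSeries i).map (QuotientGroup.mk' (zpowers z)) = (⊤ : Subgroup (G ⧸ zpowers z)).lowerCentralSeries i :=
    fun i => by
      rw [Subgroup.map_lowerCentralSeries, Subgroup.map_top_of_surjective _ (QuotientGroup.mk'_surjective _)]
  have hne : γ (m + 2) ≠ ⊥ := fun e => hQγ (by rw [← hmap, e, Subgroup.map_bot])
  have hzγ : ∀ i ≤ m + 2, z ∈ γ i := fun i hi => Subgroup.lowerCentralSeries_antitone _ hi (h.last _ hne)
  have hcardγ : ∀ i, 1 ≤ i → i ≤ m + 2 → Nat.card ↥(γ i : Subgroup G) = p ^ (m + 3 - i) * p := by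
    intro i hi1 hi2
    have hc := card_comap_mk' (p := p) (Z := zpowers z) (by rw [Nat.card_zpowers, h.zo]) ((γ i).map (QuotientGroup.mk' (zpowers z)))
    rw [comap_map_eq_self (by rw [QuotientGroup.ker_mk']; exact zpowers_le.mpr (hzγ i hi2)), hmap,
      PGroup.card_lcs_of_maximal (by omega) hQcard hQcl hi1 (by omega)] at hc
    rw [hc, show m + 4 - 1 - i = m + 3 - i by omega]
  have hEγ : E = γ (m + 2) := by
    have hEmap : E.map (QuotientGroup.mk' (zpowers z)) = center (G ⧸ zpowers z) := by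
      refine eq_of_le_of_card_ge ?_ ?_
      · rintro _ ⟨e, he, rfl⟩; exact h.map_central (h.el.2 e he)
      · have hc := card_comap_mk' (p := p) (Z := zpowers z) (by rw [Nat.card_zpowers, h.zo]) (E.map (QuotientGroup.mk' (zpowers z)))
        rw [comap_map_eq_self (by rw [QuotientGroup.ker_mk']; exact h.zE), h.card2, sq] at hc
        rw [PGroup.card_center_of_maximal (by omega) hQcard hQcl]
        exact (Nat.eq_of_mul_eq_mul_right hp.pos hc).le
    refine (eq_of_le_of_card_ge ?_ ?_).symm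
    · rw [← comap_map_eq_self (f := (QuotientGroup.mk' (zpowers z))) (H := E) (by rw [QuotientGroup.ker_mk']; exact h.zE), hEmap,
        ← map_le_iff_le_comap, hmap]
      intro a ha
      rw [mem_center_iff]
      intro g
      have : ⁅g, a⁆ ∈ (⊤ : Subgroup (G ⧸ zpowers z)).lowerCentralSeries (m + 2 + 1) := by
        rw [Subgroup.lowerCentralSeries_succ, Subgroup.commutator_comm]
        exact commutator_mem_commutator (mem_top g) ha
      rw [← hmap, hbot, Subgroup.map_bot, mem_bot, commutatorElement_eq_one_iff_mul_comm] at this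
      exact this
    · rw [h.card2, hcardγ (m + 2) (by omega) le_rfl, show m + 3 - (m + 2) = 1 by omega, pow_one, sq]
  obtain ⟨u, hu, g₀, hg₀⟩ : ∃ u ∈ γ m, ∃ g : G, ⁅g, u⁆ ∉ E := by
    by_contra hh
    push Not at hh
    have hle : γ (m + 1) ≤ E := by
      rw [Subgroup.lowerCentralSeries_succ, Subgroup.commutator_comm, Subgroup.commutator_le]
      exact fun g _ u hu => hh u hu g
    have h1 := card_le_of_le hle
    rw [hcardγ (m + 1) (by omega) (by omega), h.card2, show m + 3 - (m + 1) = 2 by omega, ← pow_succ] at h1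
    have := (Nat.pow_le_pow_iff_right hp.one_lt).mp h1
    omega
  let K' : Subgroup G := (centralizer ({QuotientGroup.mk' E u} : Set (G ⧸ E))).comap (QuotientGroup.mk' E)
  have hK' : ∀ g, g ∈ K' ↔ ⁅g, u⁆ ∈ E := fun g => by
    rw [mem_comap, mem_centralizer_singleton_iff, ← commutatorElement_eq_one_iff_mul_comm,
      ← map_commutatorElement]
    exact QuotientGroup.eq_one_iff _
  let K : Subgroup G := (centralizer ((((γ 1 : Subgroup G).map (QuotientGroup.mk' (γ 3 : Subgroup G))) : Subgroup (G ⧸ (γ 3 : Subgroup G))) : Set (G ⧸ (γ 3 : Subgroup G)))).comap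
    (QuotientGroup.mk' (γ 3))
  have hK : ∀ g, g ∈ K ↔ ∀ w ∈ γ 1, ⁅w, g⁆ ∈ γ 3 := fun g => by
    rw [mem_comap, mem_centralizer_iff]
    constructor
    · intro hg w hw
      refine (QuotientGroup.eq_one_iff _).mp ((map_commutatorElement (QuotientGroup.mk' (γ 3)) w g).trans ?_)
      exact commutatorElement_eq_one_iff_mul_comm.mpr (hg _ (mem_map_of_mem _ hw))
    · rintro hg _ ⟨w, hw, rfl⟩
      refine commutatorElement_eq_one_iff_mul_comm.mp ?_
      rw [← map_commutatorElement]
      exact (QuotientGroup.eq_one_iff _).mpr (hg w hw)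
  obtain ⟨g₁, hg₁⟩ : ∃ g, g ∉ K := by
    by_contra hh
    push Not at hh
    have hle : (γ 2 : Subgroup G) ≤ γ 3 := by
      rw [show (2 : ℕ) = 1 + 1 from rfl, Subgroup.lowerCentralSeries_succ, Subgroup.commutator_le]
      exact fun w hw g _ => (hK g).mp (hh g) w hw
    rcases Nat.eq_zero_or_pos m with rfl | hm0
    · exact hne (le_bot_iff.mp (hle.trans hbot.le))
    · have h1 := card_le_of_le hle
      rw [hcardγ 2 (by omega) (by omega)] at h1
      rcases Nat.lt_or_ge (m + 2) 3 with hlt | hge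
      · omega
      · rw [hcardγ 3 (by omega) hge, ← pow_succ, ← pow_succ] at h1
        have := (Nat.pow_le_pow_iff_right hp.one_lt).mp h1
        omega
  obtain ⟨g, hgK, hgK'⟩ : ∃ g, g ∉ K ∧ g ∉ K' := by
    by_contra hh
    push Not at hh
    have hg₁' : g₁ ∈ K' := hh g₁ hg₁
    have hg₀' : g₀ ∈ K := by
      by_contra hg
      exact hg₀ ((hK' g₀).mp (hh g₀ hg))
    rcases em (g₁ * g₀ ∈ K) with hm' | hm'
    · exact hg₁ ((Subgroup.mul_mem_cancel_right _ hg₀').mp hm')
    · exact hg₀ ((hK' g₀).mp ((Subgroup.mul_mem_cancel_left _ hg₁').mp (hh _ hm')))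
  have hg1 : g ^ p ∈ γ 1 := by
    have hnc' : ¬ IsCyclic (G ⧸ zpowers z) := PGroup.not_cyclic_of_lcs_ne_bot (by omega : 1 ≤ m + 2) hQγ
    have hfr := PGroup.frattini_eq_commutator_of_index_sq (p := p) hQG hnc'
      (PGroup.index_commutator_of_maximal (by omega) hQcard hQcl)
    have h1 : ((QuotientGroup.mk' (zpowers z)) g) ^ p ∈ frattini (G ⧸ zpowers z) := PGroup.pow_mem_frattini hQG _
    rw [hfr, ← Subgroup.top_lowerCentralSeries_one, ← hmap, ← map_pow, ← mem_comap,
      comap_map_eq_self (by rw [QuotientGroup.ker_mk']; exact zpowers_le.mpr (hzγ 1 (by omega)))] at h1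
    exact h1
  have hg2 : g ^ p ∈ γ 2 := by
    by_contra hg2
    refine hgK ((hK g).mpr fun w hw => ?_)
    have hlt : γ 2 < γ 2 ⊔ zpowers (g ^ p) := left_lt_sup.mpr fun hle => hg2 (hle (mem_zpowers _))
    have heq : γ 2 ⊔ zpowers (g ^ p) = γ 1 := by
      refine eq_of_le_of_card_ge (sup_le (Subgroup.lowerCentralSeries_antitone _ (by omega)) (zpowers_le.mpr hg1)) ?_
      refine le_trans (le_of_eq ?_) (PGroup.mul_card_le_card hG hlt)
      rw [hcardγ 1 le_rfl (by omega), hcardγ 2 (by omega) (by omega),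
        show m + 3 - 1 = m + 3 - 2 + 1 by omega, pow_succ']
      ring
    have hle : γ 1 ≤ (centralizer ({QuotientGroup.mk' (γ 3) g} : Set (G ⧸ γ 3))).comap (QuotientGroup.mk' (γ 3)) := by
      rw [← heq]
      refine sup_le (fun a ha => ?_) (zpowers_le.mpr ?_) <;>
        rw [mem_comap, mem_centralizer_singleton_iff]
      · rw [← commutatorElement_eq_one_iff_mul_comm, ← map_commutatorElement]
        refine (QuotientGroup.eq_one_iff _).mpr ?_
        rw [show (3 : ℕ) = 2 + 1 from rfl, Subgroup.lowerCentralSeries_succ]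
        exact commutator_mem_commutator ha (mem_top g)
      · rw [map_pow]; exact ((Commute.refl _).pow_left p).eq
    refine (QuotientGroup.eq_one_iff _).mp ((map_commutatorElement (QuotientGroup.mk' (γ 3)) w g).trans ?_)
    exact commutatorElement_eq_one_iff_mul_comm.mpr (mem_centralizer_singleton_iff.mp (hle hw))
  -- the contradiction
  set t := ⁅g, u⁆ with ht
  have htE : t ∉ E := fun e => hgK' ((hK' g).mpr e)
  have ht1 : t ∈ γ (m + 1) := by
    rw [Subgroup.lowerCentralSeries_succ, Subgroup.commutator_comm]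
    exact commutator_mem_commutator (mem_top g) hu
  set e := ⁅g, t⁆ with he
  have heE : e ∈ E := by
    rw [hEγ, Subgroup.lowerCentralSeries_succ, Subgroup.commutator_comm]
    exact commutator_mem_commutator (mem_top g) ht1
  have hec : ∀ a : G, Commute a e := fun a => by
    refine commutatorElement_eq_one_iff_mul_comm.mp ?_
    rw [← mem_bot, ← hbot, Subgroup.lowerCentralSeries_succ, Subgroup.commutator_comm]
    exact commutator_mem_commutator (mem_top a) (hEγ ▸ heE)
  have hgu : g * u * g⁻¹ = t * u := by rw [ht, commutatorElement_def, inv_mul_cancel_right]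
  have hgt : g * t * g⁻¹ = e * t := by rw [he, commutatorElement_def, inv_mul_cancel_right]
  have hge : g * e * g⁻¹ = e := by rw [(hec g).eq, mul_inv_cancel_right]
  have h3 := conj_cube hgu hgt hge (hec t)
  have he3 : e ^ 3 = 1 := hp3 ▸ h.el.2 e heE
  have hcom : Commute (g ^ 3) u := by
    refine commutatorElement_eq_one_iff_mul_comm.mp ?_
    rw [← mem_bot, ← hbot, show m + 3 = 2 + m + 1 by omega]
    exact S4209.lcs_comm 2 m (commutator_mem_commutator (hp3 ▸ hg2) hu)
  rw [hcom.eq, mul_inv_cancel_right, he3, one_mul] at h3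
  exact htE (h.hom t (by rw [hp3]; exact (mul_eq_right.mp h3.symm)))

end Step

/-- The case `Ω₁(G) = E` of the classification. -/
theorem inside (hp2 : p ≠ 2) {n : ℕ} (hn : Nat.card G = p ^ n) {E : Subgroup G} [E.Normal]
    (hE : Cfsg.IsElementaryAbelian p E) (hE2 : Nat.card E = p ^ 2) (hom : ∀ x : G, x ^ p = 1 → x ∈ E)
    (hnc : ¬ IsCyclic G)
    (ih : ∀ (H : Type u) [Group H] [Finite H], Nat.card H = p ^ (n - 1) → Cfsg.PRankLE p 2 H → 1 ≤ n →
      Alt H p (n - 1)) :
    Cfsg.IsMetacyclic G ∨ MaxThree G p n := by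
  have hp : p.Prime := Fact.out
  have hG : IsPGroup p G := IsPGroup.of_card hn
  by_cases hs : Nat.card (commutator G) ≤ p
  · exact Or.inl (metacyclic_of_small hp2 hG hnc hE hE2 hom hs)
  have hex : ∃ j, (γ j : Subgroup G) = ⊥ := by
    have := hG.isNilpotent
    exact ⟨_, Subgroup.lowerCentralSeries_eq_bot_iff_nilpotencyClass_le.mpr le_rfl⟩
  classical
  set c := Nat.find hex
  have hc : γ c = ⊥ := Nat.find_spec hex
  have hc2 : 2 ≤ c := by
    by_contra hlt
    refine hs ?_
    have hb : γ 1 = ⊥ := le_bot_iff.mp ((Subgroup.lowerCentralSeries_antitone _ (by omega : c ≤ 1)).trans hc.le)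
    rw [← Subgroup.top_lowerCentralSeries_one, hb, card_bot]
    exact hp.one_lt.le
  have hcne : γ (c - 1) ≠ ⊥ := Nat.find_min hex (by omega)
  have hcc : γ (c - 1) ≤ center G := by
    intro a ha
    rw [mem_center_iff]
    intro g
    refine commutatorElement_eq_one_iff_mul_comm.mp ?_
    rw [← mem_bot, ← hc, show c = c - 1 + 1 by omega, Subgroup.lowerCentralSeries_succ, Subgroup.commutator_comm]
    exact commutator_mem_commutator (mem_top g) ha
  obtain ⟨z, hzγ, hzc, hzo⟩ : ∃ z, z ∈ γ (c - 1) ∧ z ∈ center G ∧ orderOf z = p := by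
    obtain ⟨z, hz⟩ := PGroup.exists_orderOf_eq_mem_center hG (γ (c - 1)) hcne
    exact ⟨z, hz.1, hcc hz.1, hz.2.2⟩
  have : (zpowers z).Normal := ⟨fun w hw g => by
    rw [mem_center_iff.mp (zpowers_le.mpr hzc hw) g, mul_inv_cancel_right]; exact hw⟩
  have hst : Step G p n E z := ⟨hp2, hn, hE, hE2, hom, hzc, hzo, fun j hj => by
    refine Subgroup.lowerCentralSeries_antitone _ ?_ hzγ
    by_contra hlt
    exact hj (le_bot_iff.mp ((Subgroup.lowerCentralSeries_antitone _ (by omega : c ≤ j)).trans hc.le)), not_le.mp hs⟩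
  obtain ⟨hQc, hn1⟩ := hst.card_quotient
  have hzG : z ∈ commutator G := by
    rw [← Subgroup.top_lowerCentralSeries_one]
    exact Subgroup.lowerCentralSeries_antitone _ (by omega : 1 ≤ c - 1) hzγ
  rcases ih _ hQc (pRankLE_quotient hp2 hE2 hom (by rw [Nat.card_zpowers, hzo]) (zpowers_le.mpr hzc)) hn1
    with hQ | hQ | hQ | hQ
  · exact Or.inl (metacyclic_case hG hzc hzo hzG (not_le.mp hs) hQ)
  · exact Or.inr (hst.type_two_case hQ)
  · exact Or.inr (hst.type_three_case hQ)
  · exact Or.inr (hst.max_three_case hnc hQ)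

end Cfsg.Agent.RankTwoClass
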