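import Mathlib
import Cfsg.Prelude.Def_CaseTheorems
import Cfsg.Prelude.Def_OddOrderLocal
import Cfsg.Agent.Lib.PGroup.Class2
import Cfsg.Agent.Lib.PGroup.AlperinOmega
import Cfsg.Agent.Lib.PGroup.NormalElementary

/-!
# Odd `p`-groups of rank at most two: the three types and elementary tools

* `TypeTwo`, `TypeThree`, `MaxThree`, `Alt`: the alternatives of Blackburn's classification.
* `mul_pow_formula`: `(a x)^m` when `x` acts on `a` unipotently with two steps.
-/

set_option autoImplicit false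

namespace Cfsg.Agent.RankTwoClass

universe u

/-- Central product of the group of order `p^3` and exponent `p` with a cyclic group. -/
def TypeTwo (G : Type u) [Group G] (p n : ℕ) : Prop :=
  3 ≤ n ∧ ∃ x y z : G, Subgroup.closure ({x, y, z} : Set G) = ⊤ ∧ x ^ p = 1 ∧ y ^ p = 1 ∧ z ^ p ^ (n - 2) = 1 ∧
    x * z = z * x ∧ y * z = z * y ∧ x⁻¹ * y * x = y * z ^ p ^ (n - 3)

/-- Extension of the previous type by an automorphism, Blackburn's second family. -/
def TypeThree (G : Type u) [Group G] (p n : ℕ) : Prop :=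
  4 ≤ n ∧ ∃ (s : ℕ) (x y z : G), (s = 1 ∨ ¬ IsSquare (s : ZMod p)) ∧ Subgroup.closure ({x, y, z} : Set G) = ⊤ ∧
    x ^ p = 1 ∧ y ^ p = 1 ∧ z ^ p ^ (n - 2) = 1 ∧ y * z = z * y ∧ x⁻¹ * y * x = y * z ^ (s * p ^ (n - 3)) ∧
    x⁻¹ * z * x = y * z

/-- A `3`-group of maximal class. -/
def MaxThree (G : Type u) [Group G] (p n : ℕ) : Prop :=
  p = 3 ∧ 2 ≤ n ∧ (⊤ : Subgroup G).lowerCentralSeries (n - 2) ≠ ⊥

/-- The alternatives of the classification. -/
def Alt (G : Type u) [Group G] (p n : ℕ) : Prop :=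
  Cfsg.IsMetacyclic G ∨ TypeTwo G p n ∨ TypeThree G p n ∨ MaxThree G p n

variable {G : Type u} [Group G] {p : ℕ}

/-- `(a x)^m` when `x` acts on the abelian group `⟨a, d, e⟩` by `a ↦ d a`, `d ↦ e d`, `e ↦ e`. -/
theorem mul_pow_formula {a x d e : G} (had : Commute a d) (hde : Commute d e)
    (h1 : x * a * x⁻¹ = d * a) (h2 : x * d * x⁻¹ = e * d) (h3 : x * e * x⁻¹ = e) (m : ℕ) :
    (a * x) ^ m = a ^ m * d ^ m.choose 2 * e ^ m.choose 3 * x ^ m := by
  induction m with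
  | zero => simp
  | succ m ih =>
    calc (a * x) ^ (m + 1)
        = a * ((x * a * x⁻¹) ^ m * (x * d * x⁻¹) ^ m.choose 2 * (x * e * x⁻¹) ^ m.choose 3) * x ^ (m + 1) := by
          rw [pow_succ', ih, conj_pow, conj_pow, conj_pow, pow_succ' x m]; group
      _ = a * ((d * a) ^ m * (e * d) ^ m.choose 2 * e ^ m.choose 3) * x ^ (m + 1) := by rw [h1, h2, h3]
      _ = a ^ (m + 1) * d ^ (m + 1).choose 2 * e ^ (m + 1).choose 3 * x ^ (m + 1) := by
          congr 1
          rw [had.symm.mul_pow, hde.symm.mul_pow, Nat.choose_succ_succ' m 1, Nat.choose_one_right,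
            Nat.choose_succ_succ' m 2, (had.symm.pow_pow m m).eq, pow_succ', pow_add d, pow_add e,
            (hde.symm.pow_pow (m.choose 2) (m.choose 2)).eq]
          simp only [mul_assoc]

theorem dvd_choose_two (hp : p.Prime) (h2 : p ≠ 2) : p ∣ p.choose 2 :=
  hp.dvd_choose_self two_ne_zero (lt_of_le_of_ne hp.two_le (Ne.symm h2))

theorem dvd_choose_three (hp : p.Prime) (h3 : 3 < p) : p ∣ p.choose 3 :=
  hp.dvd_choose_self (by norm_num) h3

theorem pow_choose_eq_one {d : G} {k : ℕ} (hd : d ^ p = 1) (hk : p ∣ k) : d ^ k = 1 := by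
  obtain ⟨c, rfl⟩ := hk
  rw [pow_mul, hd, one_pow]

theorem exists_npow [Finite G] {a g : G} (h : g ∈ Subgroup.zpowers a) : ∃ i : ℕ, a ^ i = g :=
  Submonoid.mem_powers_iff _ _ |>.mp ((mem_powers_iff_mem_zpowers).mpr h)

/-- An element of prime order generates every element `w` of its cyclic group. -/
theorem mem_zpowers_of_pow_notDvd {x : G} (hp : p.Prime) (hx : x ^ p = 1) {j : ℕ} (hj : ¬ p ∣ j) :
    ∃ l : ℕ, x ^ (j * l) = x := by
  obtain ⟨l, hl⟩ := Nat.exists_mul_mod_eq_one_of_coprime (k := p) (n := j)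
    ((hp.coprime_iff_not_dvd.mpr hj).symm) hp.one_lt
  refine ⟨l, ?_⟩
  rw [← Nat.mod_add_div (j * l) p, hl.2, pow_add, pow_one, pow_mul, hx, one_pow, mul_one]

theorem pow_eq_one_iff_dvd {x : G} [Fact p.Prime] (hx : x ^ p = 1) (hx1 : x ≠ 1) (j : ℕ) :
    x ^ j = 1 ↔ p ∣ j := by
  rw [← orderOf_dvd_iff_pow_eq_one, orderOf_eq_prime hx hx1]

/-- A nontrivial element of order `p` in a cyclic group `⟨d⟩` of order `p^(k+1)`. -/
theorem exists_eq_pow_mul [Finite G] [Fact p.Prime] {d w : G} {k : ℕ} (hd : orderOf d = p ^ (k + 1))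
    (hw : w ∈ Subgroup.zpowers d) (hwp : w ^ p = 1) (hw1 : w ≠ 1) :
    ∃ t : ℕ, ¬ p ∣ t ∧ w = d ^ (t * p ^ k) := by
  obtain ⟨i, rfl⟩ := exists_npow hw
  rw [← pow_mul, ← orderOf_dvd_iff_pow_eq_one, hd, pow_succ] at hwp
  obtain ⟨t, rfl⟩ : p ^ k ∣ i := Nat.dvd_of_mul_dvd_mul_right (Fact.out (p := p.Prime)).pos hwp
  refine ⟨t, fun h => hw1 ?_, by rw [mul_comm t]⟩
  rw [← orderOf_dvd_iff_pow_eq_one, hd, pow_succ]
  exact Nat.mul_dvd_mul_left _ h

theorem pow_mul_pow_congr [Fact p.Prime] {d : G} {k a b : ℕ} (hd : orderOf d = p ^ (k + 1))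
    (h : (a : ZMod p) = b) : d ^ (a * p ^ k) = d ^ (b * p ^ k) := by
  rw [pow_eq_pow_iff_modEq, hd, pow_succ']
  exact ((ZMod.natCast_eq_natCast_iff a b p).mp h).mul_right' _

theorem card_sup_mul_card_inf [Finite G] (N H : Subgroup G) [N.Normal] :
    Nat.card ↥(N ⊔ H) * Nat.card ↥(N ⊓ H) = Nat.card N * Nat.card H := by
  have h1 : Nat.card N * N.relIndex (N ⊔ H) = Nat.card ↥(N ⊔ H) := by
    rw [← Subgroup.relIndex_bot_left N, Subgroup.relIndex_mul_relIndex _ _ _ bot_le le_sup_left,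
      Subgroup.relIndex_bot_left]
  have h2 : Nat.card ↥(N ⊓ H) * (N ⊓ H).relIndex H = Nat.card H := by
    rw [← Subgroup.relIndex_bot_left (N ⊓ H), Subgroup.relIndex_mul_relIndex _ _ _ bot_le inf_le_right,
      Subgroup.relIndex_bot_left]
  rw [Subgroup.relIndex_sup_left] at h1
  rw [Subgroup.inf_relIndex_right] at h2
  rw [← h1, ← h2]
  ring

/-- A cyclic normal subgroup supplemented by a cyclic subgroup gives a metacyclic group. -/
theorem isMetacyclic_of_sup {N : Subgroup G} [hN : N.Normal] (hc : IsCyclic N) (b : G)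
    (h : N ⊔ Subgroup.zpowers b = ⊤) : Cfsg.IsMetacyclic G := by
  refine ⟨N, hN, hc, isCyclic_iff_exists_zpowers_eq_top.mpr ⟨QuotientGroup.mk' N b, ?_⟩⟩
  rw [← MonoidHom.map_zpowers, ← Subgroup.map_top_of_surjective _ (QuotientGroup.mk'_surjective N), ← h,
    Subgroup.map_sup, QuotientGroup.map_mk'_self, bot_sup_eq]

theorem isMetacyclic_of_isCyclic (h : IsCyclic G) : Cfsg.IsMetacyclic G := by
  obtain ⟨g, hg⟩ := h.exists_zpow_surjective
  refine isMetacyclic_of_sup (N := ⊥) inferInstance g (top_le_iff.mp fun x _ => ?_)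
  obtain ⟨i, rfl⟩ := hg x
  exact Subgroup.mem_sup_right ⟨i, rfl⟩

/-- In rank at most two an elementary abelian normal subgroup of order `p^2` contains every element of
order `p` centralizing it. -/
theorem mem_of_centralizer [Finite G] [Fact p.Prime] (hp2 : p ≠ 2) (hG : IsPGroup p G)
    (hr : Cfsg.PRankLE p 2 G) {E : Subgroup G} [E.Normal] (hE : Cfsg.IsElementaryAbelian p E)
    (hE2 : Nat.card E = p ^ 2) {x : G} (hx : x ∈ Subgroup.centralizer (E : Set G)) (hxp : x ^ p = 1) : x ∈ E :=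
  PGroup.mem_of_centralizer_of_maximal_normal hp2 hG hE
    (fun F _ hF hEF => (Subgroup.eq_of_le_of_card_ge hEF (by rw [hE2]; exact hr F hF.1 hF.2)).symm) hx hxp

/-- Commutators with a normal subgroup of order `p^2` are central. -/
theorem commutator_mem_center [Finite G] [Fact p.Prime] (hG : IsPGroup p G) {E : Subgroup G} [E.Normal]
    (hE2 : Nat.card E = p ^ 2) {e : G} (he : e ∈ E) (g : G) :
    g * e * g⁻¹ * e⁻¹ ∈ E ∧ g * e * g⁻¹ * e⁻¹ ∈ Subgroup.center G := by
  have hp := Fact.out (p := p.Prime)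
  have hne : E ≠ ⊥ := fun h => by
    rw [h, Subgroup.card_bot] at hE2
    exact (Nat.one_lt_pow two_ne_zero hp.one_lt).ne hE2
  have hlt := PGroup.commutator_top_lt hG E hne
  have hm : g * e * g⁻¹ * e⁻¹ ∈ ⁅E, (⊤ : Subgroup G)⁆ := by
    rw [Subgroup.commutator_comm]
    exact Subgroup.commutator_mem_commutator (Subgroup.mem_top g) he
  refine ⟨hlt.le hm, ?_⟩
  obtain ⟨k, hk⟩ := PGroup.card_eq_pow hG ⁅E, (⊤ : Subgroup G)⁆
  have hk1 : k ≤ 1 := by
    have := PGroup.mul_card_le_card hG hlt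
    rw [hk, hE2, ← pow_succ'] at this
    have := (Nat.pow_le_pow_iff_right hp.one_lt).mp this
    omega
  rcases Nat.le_one_iff_eq_zero_or_eq_one.mp hk1 with rfl | rfl
  · rw [pow_zero, Subgroup.card_eq_one] at hk
    rw [hk, Subgroup.mem_bot] at hm
    rw [hm]
    exact Subgroup.one_mem _
  · exact PGroup.le_center_of_card_eq hG _ (by rw [hk, pow_one]) hm

end Cfsg.Agent.RankTwoClass
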