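import Cfsg.Agent.Lib.RankTwoClass.Inside
import Cfsg.Agent.S0126

/-!
# The odd `p`-groups of rank at most two (Blackburn)

* `classify`: metacyclic, type two, type three, or a `3`-group of maximal class.
* `isMetacyclic_of_omega`: for `p > 3`, at most `p^2` elements of order `p` implies metacyclic.
* `pow_eq_one_of_mem_closure`: for `p > 3` the elements of order `p` generate a group of exponent `p`.
-/

set_option autoImplicit false

namespace Cfsg.Agent.RankTwoClass

open Subgroup

universe u

theorem classify_aux (p : ℕ) [Fact p.Prime] (hp2 : p ≠ 2) : ∀ (n : ℕ) (G : Type u) [Group G] [Finite G],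
    Nat.card G = p ^ n → Cfsg.PRankLE p 2 G → Alt G p n := by
  intro n
  induction n using Nat.strong_induction_on with
  | _ n ih =>
    intro G _ _ hn hr
    by_cases hc : IsCyclic G
    · exact Or.inl (isMetacyclic_of_isCyclic hc)
    obtain ⟨E, hEn, hE, hE2⟩ := S0126.result hp2 (IsPGroup.of_card hn) hc
    by_cases hom : ∀ x : G, x ^ p = 1 → x ∈ E
    · rcases inside hp2 hn hE hE2 hom hc (fun H _ _ hH hrH hn1 => ih (n - 1) (by omega) H hH hrH) with h | h
      · exact Or.inl h
      · exact Or.inr (Or.inr (Or.inr h))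
    · push Not at hom
      obtain ⟨x, hxp, hxE⟩ := hom
      exact Or.inr (outside hp2 hn hr hE hE2 hxp hxE).1

variable {G : Type u} [Group G] [Finite G] {p : ℕ} [Fact p.Prime]

theorem classify (hp2 : p ≠ 2) {n : ℕ} (hn : Nat.card G = p ^ n) (hr : Cfsg.PRankLE p 2 G) : Alt G p n :=
  classify_aux p hp2 n G hn hr

/-- Huppert: for `p > 3` a `p`-group in which the elements of order `p` lie in a subgroup of order at most
`p^2` is metacyclic. -/
theorem isMetacyclic_of_omega (hp : 3 < p) (hG : IsPGroup p G) {O : Subgroup G}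
    (hO : Nat.card O ≤ p ^ 2) (hom : ∀ x : G, x ^ p = 1 → x ∈ O) : Cfsg.IsMetacyclic G := by
  have hp2 : p ≠ 2 := by omega
  obtain ⟨n, hn⟩ := IsPGroup.iff_card.mp hG
  have hr : Cfsg.PRankLE p 2 G := fun A _ hA => (card_le_of_le fun a ha => hom a (hA a ha)).trans hO
  by_cases hc : IsCyclic G
  · exact isMetacyclic_of_isCyclic hc
  obtain ⟨E, hEn, hE, hE2⟩ := S0126.result hp2 hG hc
  have hEO : E = O := eq_of_le_of_card_ge (fun e he => hom e (hE.2 e he)) (hO.trans hE2.ge)
  rcases inside hp2 hn hE hE2 (fun x hx => hEO ▸ hom x hx) hc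
    (fun H _ _ hH hrH _ => classify hp2 hH hrH) with h | ⟨h, -⟩
  · exact h
  · omega

/-- For `p > 3` and rank at most two the elements of order `p` generate a subgroup of exponent `p`. -/
theorem pow_eq_one_of_mem_closure (hp : 3 < p) (hG : IsPGroup p G) (hr : Cfsg.PRankLE p 2 G) {g : G}
    (hg : g ∈ closure {x : G | x ^ p = 1}) : g ^ p = 1 := by
  have hp2 : p ≠ 2 := by omega
  obtain ⟨n, hn⟩ := IsPGroup.iff_card.mp hG
  by_cases hc : IsCyclic G
  · induction hg using closure_induction with
    | mem x hx => exact hx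
    | one => exact one_pow p
    | mul a b _ _ ha hb =>
      rw [(show Commute a b from hc.isMulCommutative.is_comm.comm a b).mul_pow, ha, hb, one_mul]
    | inv a _ ha => rw [inv_pow, ha, inv_one]
  obtain ⟨E, hEn, hE, hE2⟩ := S0126.result hp2 hG hc
  by_cases hom : ∀ x : G, x ^ p = 1 → x ∈ E
  · exact hE.2 g ((closure_le E).mpr hom hg)
  · push Not at hom
    obtain ⟨x, hxp, hxE⟩ := hom
    obtain ⟨U, hU, hall⟩ := (outside hp2 hn hr hE hE2 hxp hxE).2 hp
    exact hU g ((closure_le U).mpr hall hg)

end Cfsg.Agent.RankTwoClass
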