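import Cfsg.Agent.Lib.RankTwoClass.Basic
import Cfsg.Agent.Lib.RankTwo.Basic
import Cfsg.Agent.Lib.Fusion.MetacyclicOmega
import Cfsg.Agent.Lib.PGroup.MaximalClass
import Cfsg.Agent.S4143

/-!
# Odd `p`-groups of rank two with an element of order `p` outside the normal four-group

`outside`: such a group is of type two or three, or a `3`-group of maximal class; for `p > 3` the
elements of order `p` generate a subgroup of exponent `p`.
-/

set_option autoImplicit false

namespace Cfsg.Agent.RankTwoClass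

open Subgroup

universe u

variable {G : Type u} [Group G] [Finite G] {p : ℕ}

/-- `x` acts as a transvection on `E = ⟨y, z⟩`, `z` central. -/
structure Frame (G : Type u) [Group G] (p : ℕ) (E : Subgroup G) (x y z : G) : Prop where
  xp : x ^ p = 1
  xE : x ∉ E
  yE : y ∈ E
  zE : z ∈ E
  zc : z ∈ center G
  z1 : z ≠ 1
  xy : x * y * x⁻¹ = z * y
  gen : ∀ e ∈ E, ∃ i j : ℕ, e = z ^ i * y ^ j
  cent : ∀ e ∈ E, e ∈ center G → e ∈ zpowers z

variable [Fact p.Prime]

theorem exists_frame (hp2 : p ≠ 2) (hG : IsPGroup p G) (hr : Cfsg.PRankLE p 2 G) {E : Subgroup G} [E.Normal]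
    (hE : Cfsg.IsElementaryAbelian p E) (hE2 : Nat.card E = p ^ 2) {x : G} (hxp : x ^ p = 1) (hxE : x ∉ E) :
    ∃ y z : G, Frame G p E x y z := by
  obtain ⟨y, hyE, hxy⟩ : ∃ y ∈ E, x * y ≠ y * x := by
    by_contra h
    push Not at h
    exact hxE (mem_of_centralizer hp2 hG hr hE hE2 (mem_centralizer_iff.mpr fun e he => (h e he).symm) hxp)
  set z := x * y * x⁻¹ * y⁻¹ with hz
  obtain ⟨hzE, hzc⟩ := commutator_mem_center hG hE2 hyE x
  have hz1 : z ≠ 1 := fun h => hxy (by
    have := mul_inv_eq_one.mp h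
    exact mul_inv_eq_iff_eq_mul.mp this)
  have hyc : y ∉ zpowers z := fun h => hxy (mem_center_iff.mp (zpowers_le.mpr hzc h) x)
  have hzn : (zpowers z).Normal := ⟨fun n hn g => by
    rw [mem_center_iff.mp (zpowers_le.mpr hzc hn) g, mul_inv_cancel_right]; exact hn⟩
  have hord : Nat.card (zpowers z) = p := by rw [Nat.card_zpowers, orderOf_eq_prime (hE.2 z hzE) hz1]
  have hEq : zpowers z ⊔ zpowers y = E := by
    refine eq_of_le_of_card_ge (sup_le (zpowers_le.mpr hzE) (zpowers_le.mpr hyE)) ?_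
    rw [PGroup.card_sup_zpowers (p := p) _ hyc (by rw [hE.2 y hyE]; exact one_mem _), hord, hE2, sq]
  have hgen : ∀ e ∈ E, ∃ i j : ℕ, e = z ^ i * y ^ j := fun e he => by
    rw [← hEq] at he
    obtain ⟨a, ha, b, hb, rfl⟩ := mem_sup_of_normal_left.mp he
    obtain ⟨i, rfl⟩ := exists_npow ha
    obtain ⟨j, rfl⟩ := exists_npow hb
    exact ⟨i, j, rfl⟩
  refine ⟨y, z, hxp, hxE, hyE, hzE, hzc, hz1, by rw [hz]; group, hgen, fun e he hec => ?_⟩
  obtain ⟨i, j, rfl⟩ := hgen e he
  have hj : y ^ j ∈ center G := (Subgroup.mul_mem_cancel_left _ (pow_mem hzc i)).mp hec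
  by_cases hd : p ∣ j
  · rw [pow_choose_eq_one (hE.2 y hyE) hd, mul_one]
    exact pow_mem (mem_zpowers z) i
  · obtain ⟨l, hl⟩ := mem_zpowers_of_pow_notDvd (Fact.out : p.Prime) (hE.2 y hyE) hd
    have : y ∈ center G := by rw [← hl, pow_mul]; exact pow_mem hj l
    exact absurd (mem_center_iff.mp this x) hxy

namespace Frame

variable {E : Subgroup G} {x y z : G}

omit [Finite G] [Fact p.Prime] in
theorem x1 (h : Frame G p E x y z) : x ≠ 1 := fun e => h.xE (e ▸ E.one_mem)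

omit [Finite G] [Fact p.Prime] in
theorem zcomm (h : Frame G p E x y z) (g : G) : Commute z g := (mem_center_iff.mp h.zc g).symm

omit [Finite G] [Fact p.Prime] in
theorem pow_xy (h : Frame G p E x y z) (i : ℕ) : x ^ i * y * (x ^ i)⁻¹ = z ^ i * y := by
  induction i with
  | zero => simp
  | succ i ih =>
    calc x ^ (i + 1) * y * (x ^ (i + 1))⁻¹ = x * (x ^ i * y * (x ^ i)⁻¹) * x⁻¹ := by rw [pow_succ']; group
      _ = (x * z ^ i * x⁻¹) * (x * y * x⁻¹) := by rw [ih]; group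
      _ = z ^ (i + 1) * y := by
          rw [← (h.zcomm x).pow_left i |>.eq, mul_inv_cancel_right, h.xy, pow_succ, mul_assoc]

omit [Finite G] [Fact p.Prime] in
theorem conj_x (h : Frame G p E x y z) (i : ℕ) : y ^ i * x * (y ^ i)⁻¹ = (z ^ i)⁻¹ * x := by
  have h1 : x * y ^ i * x⁻¹ = z ^ i * y ^ i := by rw [← conj_pow, h.xy, (h.zcomm y).mul_pow]
  have h2 : x * y ^ i = z ^ i * y ^ i * x := mul_inv_eq_iff_eq_mul.mp h1
  rw [eq_inv_mul_iff_mul_eq, ← mul_assoc, ← mul_assoc, ← h2, mul_inv_cancel_right]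

theorem coset (h : Frame G p E x y z) [E.Normal] (hG : IsPGroup p G) (hE2 : Nat.card E = p ^ 2) (g : G) : ∃ (c : G) (j : ℕ), c ∈ centralizer (E : Set G) ∧ g = c * x ^ j := by
  obtain ⟨hwE, hwc⟩ := commutator_mem_center hG hE2 h.yE g
  obtain ⟨j, hj⟩ := exists_npow (h.cent _ hwE hwc)
  refine ⟨g * (x ^ j)⁻¹, j, mem_centralizer_iff.mpr fun e he => ?_, by group⟩
  obtain ⟨a, b, rfl⟩ := h.gen e he
  have hy : Commute y (g * (x ^ j)⁻¹) := by
    have h1 : g * y * g⁻¹ = x ^ j * y * (x ^ j)⁻¹ := by rw [h.pow_xy, hj]; group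
    have h5 : g * (x ^ j)⁻¹ * y * (g * (x ^ j)⁻¹)⁻¹ = y := by
      have h6 : (x ^ j)⁻¹ * y * x ^ j = (z ^ j)⁻¹ * y := by
        have h7 := h.pow_xy j
        rw [eq_inv_mul_iff_mul_eq, ← mul_assoc, ← mul_assoc, ((h.zcomm ((x ^ j)⁻¹)).pow_left j).eq,
          mul_assoc _ (z ^ j), ← h7]
        group
      calc g * (x ^ j)⁻¹ * y * (g * (x ^ j)⁻¹)⁻¹ = g * ((x ^ j)⁻¹ * y * x ^ j) * g⁻¹ := by group
        _ = g * (z ^ j)⁻¹ * (y * g⁻¹) := by rw [h6]; group
        _ = (z ^ j)⁻¹ * (g * y * g⁻¹) := by rw [← ((h.zcomm g).pow_left j).inv_left.eq]; group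
        _ = y := by rw [hj]; group
    exact (mul_inv_eq_iff_eq_mul.mp h5).symm
  exact (((h.zcomm _).pow_left a).mul_left (hy.pow_left b)).eq


end Frame


theorem mem_normalizer_of_conj_mem (U : Subgroup G) {g : G} (h : ∀ u ∈ U, g * u * g⁻¹ ∈ U) :
    g ∈ Subgroup.normalizer (U : Set G) := by
  have heq : U.map (MulAut.conj g).toMonoidHom = U := by
    refine eq_of_le_of_card_ge ?_ (ge_of_eq (card_map_of_injective (MulAut.conj g).injective))
    rintro _ ⟨u, hu, rfl⟩
    exact h u hu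
  rw [mem_normalizer_iff]
  refine fun u => ⟨h u, fun hu => ?_⟩
  rw [← heq] at hu
  obtain ⟨v, hv, hvu⟩ := hu
  have : v = u := (MulAut.conj g).injective hvu
  exact this ▸ hv

/-- Blackburn: the case with an element of order `p` outside the normal elementary subgroup of order `p^2`. -/
theorem outside (hp2 : p ≠ 2) {n : ℕ} (hn : Nat.card G = p ^ n) (hr : Cfsg.PRankLE p 2 G) {E : Subgroup G}
    [E.Normal] (hE : Cfsg.IsElementaryAbelian p E) (hE2 : Nat.card E = p ^ 2) {x : G} (hxp : x ^ p = 1)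
    (hxE : x ∉ E) :
    (TypeTwo G p n ∨ TypeThree G p n ∨ MaxThree G p n) ∧
      (3 < p → ∃ U : Subgroup G, (∀ g ∈ U, g ^ p = 1) ∧ ∀ g, g ^ p = 1 → g ∈ U) := by
  have hp : p.Prime := Fact.out
  have hG : IsPGroup p G := IsPGroup.of_card hn
  obtain ⟨y, z, hf⟩ := exists_frame hp2 hG hr hE hE2 hxp hxE
  set C := centralizer (E : Set G) with hC
  have hEC : E ≤ C := PGroup.le_centralizer_of_isMulCommutative hE.1
  have hCE : ∀ {c e : G}, c ∈ C → e ∈ E → Commute e c := fun hc he => mem_centralizer_iff.mp hc _ he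
  have hzp : z ^ p = 1 := hE.2 z hf.zE
  have hyp : y ^ p = 1 := hE.2 y hf.yE
  have hyord : ∀ j : ℕ, (z ^ j = 1 ↔ p ∣ j) := pow_eq_one_iff_dvd hzp hf.z1
  have hxC : ∀ j : ℕ, x ^ j ∈ C → p ∣ j := fun j hj => by
    by_contra hd
    obtain ⟨l, hl⟩ := mem_zpowers_of_pow_notDvd hp hxp hd
    exact hxE (mem_of_centralizer hp2 hG hr hE hE2 (hl ▸ by rw [pow_mul]; exact pow_mem hj l) hxp)
  have hxyj : ∀ i j : ℕ, x ^ i * y ^ j * (x ^ i)⁻¹ = z ^ (i * j) * y ^ j := fun i j => by
    rw [← conj_pow, hf.pow_xy, ((hf.zcomm y).pow_left i).mul_pow, pow_mul]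
  -- the group U
  set U := E ⊔ zpowers x with hUdef
  have hEU : E ≤ U := le_sup_left
  have hxU : x ∈ U := mem_sup_right (mem_zpowers x)
  have hU : ∀ u ∈ U, ∃ e ∈ E, ∃ j : ℕ, u = e * x ^ j := fun u hu => by
    obtain ⟨e, he, w, hw, rfl⟩ := mem_sup_of_normal_left.mp hu
    obtain ⟨j, rfl⟩ := exists_npow hw
    exact ⟨e, he, j, rfl⟩
  have hUexp : ∀ u ∈ U, u ^ p = 1 := fun u hu => by
    obtain ⟨e, he, j, rfl⟩ := hU u hu
    obtain ⟨hdE, hdc⟩ := commutator_mem_center hG hE2 he (x ^ j)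
    rw [mul_pow_formula (a := e) (x := x ^ j) (d := x ^ j * e * (x ^ j)⁻¹ * e⁻¹) (e := 1)
      (Subgroup.mem_center_iff.mp hdc e) (Commute.one_right _) (by group)
      (by rw [Subgroup.mem_center_iff.mp hdc (x ^ j)]; group) (by group),
      hE.2 e he, pow_choose_eq_one (hE.2 _ hdE) (dvd_choose_two hp hp2), one_pow, ← pow_mul, mul_comm j,
      pow_mul, hxp, one_pow]
    simp
  have hUcard : Nat.card U = p ^ 3 := by
    rw [hUdef, PGroup.card_sup_zpowers (p := p) E hxE (by rw [hxp]; exact one_mem _), hE2]; ring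
  set M := Subgroup.normalizer (U : Set G) with hM
  have hUM : U ≤ M := le_normalizer
  have hMU : ∀ {g u : G}, g ∈ M → u ∈ U → g * u * g⁻¹ ∈ U := fun hg hu => (mem_normalizer_iff.mp hg _).mp hu
  -- the map `eps c = c x c⁻¹ x⁻¹` on `C ∩ M`
  have heps : ∀ c ∈ C, c ∈ M → c * x * c⁻¹ * x⁻¹ ∈ E := by
    intro c hc hcM
    obtain ⟨e, he, j, hej⟩ := hU _ (hMU hcM hxU)
    have h1 : c * x * c⁻¹ * x⁻¹ ∈ C := by
      rw [show c * x * c⁻¹ * x⁻¹ = c * (x * c⁻¹ * x⁻¹) by group]
      exact mul_mem hc ((inferInstance : C.Normal).conj_mem _ (inv_mem hc) x)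
    have hxi : x⁻¹ = x ^ (p - 1) := by
      refine inv_eq_of_mul_eq_one_right ?_
      rw [← pow_succ', Nat.sub_add_cancel hp.one_le, hxp]
    rw [hej, hxi, mul_assoc, ← pow_add] at h1 ⊢
    rw [pow_choose_eq_one hxp (hxC _ ((Subgroup.mul_mem_cancel_left _ (hEC he)).mp h1)), mul_one]
    exact he
  have hmul : ∀ c ∈ C, ∀ c' ∈ C, c' ∈ M →
      c * c' * x * (c * c')⁻¹ * x⁻¹ = (c' * x * c'⁻¹ * x⁻¹) * (c * x * c⁻¹ * x⁻¹) := by
    intro c hc c' hc' hc'M
    calc c * c' * x * (c * c')⁻¹ * x⁻¹ = c * (c' * x * c'⁻¹ * x⁻¹) * c⁻¹ * (c * x * c⁻¹ * x⁻¹) := by group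
      _ = _ := by rw [← (hCE hc (heps c' hc' hc'M)).eq, mul_inv_cancel_right]
  have hepow : ∀ c ∈ C, c ∈ M → ∀ i : ℕ,
      c ^ i * x * (c ^ i)⁻¹ * x⁻¹ = (c * x * c⁻¹ * x⁻¹) ^ i := by
    intro c hc hcM i
    induction i with
    | zero => simp
    | succ i ih => rw [pow_succ, hmul _ (pow_mem hc i) c hc hcM, ih, ← pow_succ']
  -- the group D
  set D := C ⊓ centralizer ({x} : Set G) with hD
  have hDmem : ∀ {c : G}, c ∈ D ↔ c ∈ C ∧ c * x * c⁻¹ * x⁻¹ = 1 := by
    intro c
    rw [hD, mem_inf, mem_centralizer_singleton_iff, mul_inv_eq_one, mul_inv_eq_iff_eq_mul]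
  have hDU : ∀ d ∈ D, ∀ u ∈ U, Commute u d := by
    intro d hd u hu
    obtain ⟨e, he, j, rfl⟩ := hU u hu
    exact (hCE hd.1 he).mul_left ((show Commute x d from
      (mem_centralizer_singleton_iff.mp hd.2).symm).pow_left j)
  have hDM : D ≤ M := fun d hd => mem_normalizer_of_conj_mem U fun u hu => by
    rw [← (hDU d hd u hu).eq, mul_inv_cancel_right]; exact hu
  have hDz : ∀ d ∈ D, d ^ p = 1 → d ∈ zpowers z := by
    intro d hd hdp
    obtain ⟨i, j, rfl⟩ := hf.gen d (mem_of_centralizer hp2 hG hr hE hE2 hd.1 hdp)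
    have h1 : x ^ 1 * y ^ j * (x ^ 1)⁻¹ = y ^ j := by
      have hc : Commute x (z ^ i * y ^ j) := (mem_centralizer_singleton_iff.mp hd.2).symm
      have hc' : Commute x (y ^ j) := by
        have := ((hf.zcomm x).symm.pow_right i).inv_right.mul_right hc
        rwa [inv_mul_cancel_left] at this
      rw [pow_one, hc'.eq, mul_inv_cancel_right]
    rw [hxyj, one_mul, mul_eq_right, hyord] at h1
    rw [pow_choose_eq_one hyp h1, mul_one]
    exact pow_mem (mem_zpowers z) i
  have hzD : z ∈ D := hDmem.mpr ⟨hEC hf.zE, by rw [(hf.zcomm x).eq]; group⟩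
  have hzord : Nat.card (zpowers z) = p := by rw [Nat.card_zpowers, orderOf_eq_prime hzp hf.z1]
  have hDcyc : IsCyclic D := by
    refine RankTwo.isCyclic_of_card_pow_le hp2 (hG.to_subgroup D) (le_trans ?_ hzord.le)
    refine Nat.card_le_card_of_injective
      (fun d => (⟨(d.1 : G), hDz _ d.1.2 (by simpa using congrArg Subtype.val d.2)⟩ : zpowers z)) ?_
    intro a b hab
    exact Subtype.ext (Subtype.ext (congrArg (fun t : zpowers z => (t : G)) hab))
  obtain ⟨⟨d₀, hd₀⟩, hgen⟩ := hDcyc.exists_zpow_surjective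
  have hDeq : D = zpowers d₀ := le_antisymm (fun d hd => by
    obtain ⟨i, hi⟩ := hgen ⟨d, hd⟩
    exact ⟨i, by simpa using congrArg Subtype.val hi⟩) (zpowers_le.mpr hd₀)
  obtain ⟨k, hk⟩ := PGroup.card_eq_pow hG D
  have hd₀o : orderOf d₀ = p ^ k := by rw [← Nat.card_zpowers, ← hDeq, hk]
  have hk1 : 1 ≤ k := by
    rcases Nat.eq_zero_or_pos k with rfl | h
    · rw [pow_zero, card_eq_one] at hk
      rw [hk, mem_bot] at hzD
      exact absurd hzD hf.z1
    · exact h
  have hUD : ∀ u ∈ U, ∀ d ∈ D, (u * d) ^ p = 1 → u * d ∈ U := by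
    intro u hu d hd h
    rw [(hDU d hd u hu).mul_pow, hUexp u hu, one_mul] at h
    exact mul_mem hu (hEU (zpowers_le.mpr hf.zE (hDz d hd h)))
  have hMtop : (∀ m ∈ M, m ^ p = 1 → m ∈ U) → M = ⊤ := by
    intro hMU'
    have := hG.isNilpotent
    by_contra hne
    refine (Group.normalizerCondition_of_isNilpotent M (lt_top_iff_ne_top.mpr hne)).not_ge fun g hg => ?_
    refine mem_normalizer_of_conj_mem U fun u hu => hMU' _ ((mem_normalizer_iff.mp hg u).mp (hUM hu)) ?_
    rw [conj_pow, hUexp u hu, mul_one, mul_inv_cancel]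
  have hred : ∀ c ∈ C, c ∈ M → c * x * c⁻¹ * x⁻¹ ∈ zpowers z → ∃ e ∈ E, ∃ d ∈ D, c = e * d := by
    intro c hc hcM hcz
    obtain ⟨i, hi⟩ := exists_npow hcz
    have hd : y ^ i * c ∈ D := hDmem.mpr ⟨mul_mem (pow_mem (hEC hf.yE) i) hc, by
      rw [hmul _ (pow_mem (hEC hf.yE) i) c hc hcM, hf.conj_x, ← hi]; group⟩
    exact ⟨(y ^ i)⁻¹, inv_mem (pow_mem hf.yE i), _, hd, by group⟩
  have hMdec : ∀ m ∈ M, ∃ c ∈ C, c ∈ M ∧ ∃ j : ℕ, m = c * x ^ j := fun m hm => by
    obtain ⟨c, j, hc, rfl⟩ := hf.coset hG hE2 m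
    exact ⟨c, hc, (Subgroup.mul_mem_cancel_right _ (hUM (pow_mem hxU j))).mp hm, j, rfl⟩
  by_cases hall : ∀ c ∈ C, c ∈ M → c * x * c⁻¹ * x⁻¹ ∈ zpowers z
  · have hdec : ∀ m ∈ M, ∃ u ∈ U, ∃ d ∈ D, m = u * d := fun m hm => by
      obtain ⟨c, hc, hcM, j, rfl⟩ := hMdec m hm
      obtain ⟨e, he, d, hd, rfl⟩ := hred c hc hcM (hall c hc hcM)
      exact ⟨e * x ^ j, mul_mem (hEU he) (pow_mem hxU j), d, hd, by
        rw [mul_assoc, ← (hDU d hd _ (pow_mem hxU j)).eq, mul_assoc]⟩
    have htop : M = ⊤ := hMtop fun m hm hmp => by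
      obtain ⟨u, hu, d, hd, rfl⟩ := hdec m hm
      exact hUD u hu d hd hmp
    refine ⟨Or.inl ?_, fun _ => ⟨U, hUexp, fun g hg => ?_⟩⟩
    swap
    · obtain ⟨u, hu, d, hd, rfl⟩ := hdec g (htop ▸ mem_top g)
      exact hUD u hu d hd hg
    have : U.Normal := normalizer_eq_top_iff.mp htop
    have hsup : U ⊔ D = ⊤ := top_le_iff.mp fun g _ => by
      obtain ⟨u, hu, d, hd, rfl⟩ := hdec g (htop ▸ mem_top g)
      exact mul_mem (mem_sup_left hu) (mem_sup_right hd)
    have hinf : U ⊓ D = zpowers z := le_antisymm (fun d hd => hDz d hd.2 (hUexp d hd.1))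
      (zpowers_le.mpr ⟨hEU hf.zE, hzD⟩)
    have hcard := card_sup_mul_card_inf U D
    rw [hsup, hinf, card_top, hn, hzord, hUcard, hk, ← pow_succ, ← pow_add] at hcard
    have hnk := Nat.pow_right_injective hp.two_le hcard
    obtain ⟨k, rfl⟩ : ∃ k', k = k' + 1 := ⟨k - 1, by omega⟩
    obtain ⟨t, ht, htz⟩ := exists_eq_pow_mul hd₀o (show z⁻¹ ∈ zpowers d₀ from hDeq ▸ inv_mem hzD)
      (by rw [inv_pow, hzp, inv_one]) (inv_ne_one.mpr hf.z1)
    obtain ⟨i, -, hi⟩ := Nat.exists_mul_mod_eq_one_of_coprime (k := p) (n := t)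
      ((hp.coprime_iff_not_dvd.mpr ht).symm) hp.one_lt
    refine ⟨by omega, x, y ^ i, d₀, ?_, hxp, by rw [← pow_mul, mul_comm, pow_mul, hyp, one_pow],
      by rw [show n - 2 = k + 1 by omega, ← hd₀o, pow_orderOf_eq_one],
      (hDU d₀ hd₀ x hxU).eq, (hDU d₀ hd₀ _ (hEU (pow_mem hf.yE i))).eq, ?_⟩
    · refine top_le_iff.mp (hsup ▸ ?_)
      set K := closure ({x, y ^ i, d₀} : Set G)
      have hx' : x ∈ K := subset_closure (by simp)
      have hy' : y ∈ K := by
        have h : (y ^ i) ^ t ∈ K := pow_mem (subset_closure (by simp)) t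
        rwa [← pow_mul, mul_comm, pow_eq_pow_mod _ hyp, hi, pow_one] at h
      have hDK : D ≤ K := hDeq ▸ zpowers_le.mpr (subset_closure (by simp))
      refine sup_le (sup_le (fun e he => ?_) (zpowers_le.mpr hx')) hDK
      obtain ⟨a, b, rfl⟩ := hf.gen e he
      exact mul_mem (pow_mem (hDK hzD) a) (pow_mem hy' b)
    · have h1 : x⁻¹ * y * x = z⁻¹ * y := by
        rw [eq_inv_mul_iff_mul_eq, ← mul_assoc, ← mul_assoc, (hf.zcomm x⁻¹).eq, mul_assoc x⁻¹ z,
          ← hf.xy]
        group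
      calc x⁻¹ * y ^ i * x = (x⁻¹ * y * x) ^ i := by
            simpa using (conj_pow (a := x⁻¹) (b := y) (i := i)).symm
        _ = y ^ i * (z⁻¹) ^ i := by
            rw [h1, (hf.zcomm y).inv_left.mul_pow]
            exact ((hf.zcomm _).inv_left.pow_left i).eq
        _ = y ^ i * d₀ ^ (p ^ (n - 3)) := by
            rw [htz, ← pow_mul, show n - 3 = k by omega]
            congr 1
            rw [show t * p ^ k * i = (t * i) * p ^ k by ring, pow_mul_pow_congr hd₀o (b := 1), one_mul]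
            rw [← ZMod.natCast_mod, hi]
  · push Not at hall
    obtain ⟨g, hgC, hgM, hgz⟩ := hall
    set e₀ := g * x * g⁻¹ * x⁻¹ with he₀
    have he₀E : e₀ ∈ E := heps g hgC hgM
    have he₀p : e₀ ^ p = 1 := hE.2 _ he₀E
    have he₀1 : e₀ ≠ 1 := fun h => hgz (h ▸ one_mem _)
    have hzn : (zpowers z).Normal := ⟨fun w hw g => by
      rw [mem_center_iff.mp (zpowers_le.mpr hf.zc hw) g, mul_inv_cancel_right]; exact hw⟩
    have hEgen : zpowers z ⊔ zpowers e₀ = E := by
      refine eq_of_le_of_card_ge (sup_le (zpowers_le.mpr hf.zE) (zpowers_le.mpr he₀E)) ?_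
      rw [PGroup.card_sup_zpowers (p := p) _ hgz (by rw [he₀p]; exact one_mem _), hzord, hE2, sq]
    let K : Subgroup G :=
      { carrier := {c | c ∈ C ∧ c ∈ M ∧ c * x * c⁻¹ * x⁻¹ ∈ zpowers e₀}
        one_mem' := ⟨one_mem _, one_mem _, by simp⟩
        mul_mem' := fun {a b} ha hb => ⟨mul_mem ha.1 hb.1, mul_mem ha.2.1 hb.2.1, by
          rw [hmul a ha.1 b hb.1 hb.2.1]; exact mul_mem hb.2.2 ha.2.2⟩
        inv_mem' := fun {a} ha => ⟨inv_mem ha.1, inv_mem ha.2.1, by
          have h := hmul a⁻¹ (inv_mem ha.1) a ha.1 ha.2.1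
          rw [inv_mul_cancel, one_mul, inv_one, mul_one, mul_inv_cancel] at h
          exact (Subgroup.mul_mem_cancel_left _ ha.2.2).mp (h ▸ one_mem _)⟩ }
    have hK : IsCyclic K := by
      refine RankTwo.isCyclic_of_card_pow_le hp2 (hG.to_subgroup K) (le_trans ?_ hzord.le)
      have key : ∀ c ∈ K, c ^ p = 1 → c ∈ zpowers z := by
        rintro c ⟨hc, hcM, hce⟩ hcp
        refine hDz c (hDmem.mpr ⟨hc, ?_⟩) hcp
        obtain ⟨i, j, rfl⟩ := hf.gen c (mem_of_centralizer hp2 hG hr hE hE2 hc hcp)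
        have h1 : z ^ i * y ^ j * x * (z ^ i * y ^ j)⁻¹ * x⁻¹ = (z ^ j)⁻¹ := by
          have hc1 : z ^ i * (y ^ j * x * (y ^ j)⁻¹) = y ^ j * x * (y ^ j)⁻¹ * z ^ i :=
            ((hf.zcomm _).pow_left i).eq
          calc z ^ i * y ^ j * x * (z ^ i * y ^ j)⁻¹ * x⁻¹
              = z ^ i * (y ^ j * x * (y ^ j)⁻¹) * (z ^ i)⁻¹ * x⁻¹ := by group
            _ = _ := by rw [hc1, mul_inv_cancel_right, hf.conj_x, mul_inv_cancel_right]
        rw [h1] at hce ⊢
        obtain ⟨l, hl⟩ := exists_npow hce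
        by_cases hpl : p ∣ l
        · rw [← hl, pow_choose_eq_one he₀p hpl]
        · obtain ⟨m, hm⟩ := mem_zpowers_of_pow_notDvd hp he₀p hpl
          exact absurd (by rw [← hm, pow_mul, hl]; exact pow_mem (inv_mem (pow_mem (mem_zpowers z) j)) m) hgz
      refine Nat.card_le_card_of_injective
        (fun d => (⟨(d.1 : G), key _ d.1.2 (by simpa using congrArg Subtype.val d.2)⟩ : zpowers z)) ?_
      intro a b hab
      exact Subtype.ext (Subtype.ext (congrArg (fun t : zpowers z => (t : G)) hab))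
    have hgK : g ∈ K := ⟨hgC, hgM, mem_zpowers _⟩
    have hd₀K : d₀ ∈ K := ⟨hd₀.1, hDM hd₀, by rw [(hDmem.mp hd₀).2]; exact one_mem _⟩
    have hgD : g ∉ D := fun h => he₀1 (hDmem.mp h).2
    have hgpD : g ^ p ∈ D := hDmem.mpr ⟨pow_mem hgC p, by rw [hepow g hgC hgM, he₀p]⟩
    obtain ⟨m, hm⟩ := (IsPGroup.iff_orderOf (p := p)).mp hG g
    have hmk : k < m := by
      by_contra hle
      have h := Fusion.mem_zpowers_of_isCyclic (a := (⟨g, hgK⟩ : K)) (b := ⟨d₀, hd₀K⟩)
        (by rw [orderOf_mk, orderOf_mk, hm, hd₀o]; exact Nat.pow_dvd_pow p (not_lt.mp hle))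
      obtain ⟨i, hi⟩ := h
      have hi' : d₀ ^ i = g := by simpa using congrArg Subtype.val hi
      exact hgD (hi' ▸ zpow_mem hd₀ i)
    have hDle : D ≤ zpowers (g ^ p) := by
      have h := Fusion.mem_zpowers_of_isCyclic (a := (⟨d₀, hd₀K⟩ : K)) (b := ⟨g, hgK⟩)
        (by rw [orderOf_mk, orderOf_mk, hm, hd₀o]; exact Nat.pow_dvd_pow p hmk.le)
      obtain ⟨i, hi⟩ := exists_npow h
      have hi' : g ^ i = d₀ := by simpa using congrArg Subtype.val hi
      have h1 : e₀ ^ i = 1 := by rw [← hepow g hgC hgM, hi', (hDmem.mp hd₀).2]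
      obtain ⟨q, rfl⟩ := (pow_eq_one_iff_dvd he₀p he₀1 i).mp h1
      exact hDeq ▸ zpowers_le.mpr (mem_zpowers_iff.mpr ⟨q, by rw [← hi', zpow_natCast, pow_mul]⟩)
    have hgo : orderOf g = p ^ (k + 1) := by
      have hcd : Nat.card (zpowers (g ^ p)) = p ^ k := by
        rw [← le_antisymm hDle (zpowers_le.mpr hgpD), hk]
      rw [Nat.card_zpowers, orderOf_pow' g hp.ne_zero, hm, show m = m - 1 + 1 by omega, pow_succ,
        Nat.gcd_mul_left_left, Nat.mul_div_cancel _ hp.pos] at hcd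
      rw [hm, show m = k + 1 by have := Nat.pow_right_injective hp.two_le hcd; omega]
    have hCM : ∀ c ∈ C, c ∈ M → ∃ e ∈ E, ∃ i : ℕ, c = e * g ^ i := by
      intro c hc hcM
      have h := heps c hc hcM
      rw [← hEgen] at h
      obtain ⟨w, hw, v, hv, hwv⟩ := mem_sup_of_normal_left.mp h
      obtain ⟨i, rfl⟩ := exists_npow hv
      have hgi : (g ^ i)⁻¹ ∈ C := inv_mem (pow_mem hgC i)
      have h2 := hmul (c * (g ^ i)⁻¹) (mul_mem hc hgi) (g ^ i) (pow_mem hgC i) (pow_mem hgM i)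
      rw [inv_mul_cancel_right, hepow g hgC hgM, ← hwv] at h2
      have hwc : e₀ ^ i * w = w * e₀ ^ i := (mem_center_iff.mp (zpowers_le.mpr hf.zc hw) _)
      rw [← hwc] at h2
      obtain ⟨e, he, d, hd, hed⟩ := hred _ (mul_mem hc hgi) (mul_mem hcM (inv_mem (pow_mem hgM i)))
        ((mul_left_cancel h2).symm ▸ hw)
      obtain ⟨q, hq⟩ := exists_npow (hDle hd)
      refine ⟨e, he, p * q + i, ?_⟩
      rw [pow_add, pow_mul, hq, ← mul_assoc, ← hed, inv_mul_cancel_right]
    have hxg : x * g * x⁻¹ = e₀⁻¹ * g := by rw [he₀]; group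
    have hge : ∀ {e : G}, e ∈ E → Commute e g := fun he => hCE hgC he
    have hkey : ∀ m ∈ M, m ^ p = 1 → m ∉ U → p = 3 ∧ k = 1 := by
      intro m hmM hmp hmU
      obtain ⟨c, hc, hcM, j, rfl⟩ := hMdec m hmM
      have hj : ¬ p ∣ j := fun hd => hmU (by
        rw [pow_choose_eq_one hxp hd, mul_one] at hmp ⊢
        exact hEU (mem_of_centralizer hp2 hG hr hE hE2 hc hmp))
      obtain ⟨l, -, hl⟩ := Nat.exists_mul_mod_eq_one_of_coprime (k := p) (n := j)
        ((hp.coprime_iff_not_dvd.mpr hj).symm) hp.one_lt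
      set m' := (c * x ^ j) ^ l with hm'
      have hm'p : m' ^ p = 1 := by rw [hm', ← pow_mul, mul_comm, pow_mul, hmp, one_pow]
      have hm'U : m' ∉ U := fun h => hmU (by
        have h' := pow_mem h j
        rwa [hm', ← pow_mul, mul_comm, pow_eq_pow_mod _ hmp, hl, pow_one] at h')
      have hc' : m' * x⁻¹ ∈ C := by
        rw [← QuotientGroup.eq_one_iff, QuotientGroup.mk_mul, hm', QuotientGroup.mk_pow, QuotientGroup.mk_mul,
          (QuotientGroup.eq_one_iff c).mpr hc, one_mul, ← QuotientGroup.mk_pow, ← QuotientGroup.mk_mul,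
          ← pow_mul, pow_eq_pow_mod _ hxp, hl, pow_one, mul_inv_cancel, QuotientGroup.mk_one]
      obtain ⟨e, he, i, hei⟩ := hCM _ hc' (mul_mem (pow_mem hmM l) (inv_mem (hUM hxU)))
      have hm'eq : m' = e * g ^ i * x := by rw [← hei, inv_mul_cancel_right]
      have hpi : ¬ p ∣ i := fun ⟨q, hq⟩ => hm'U (by
        have hd : g ^ i ∈ D := by rw [hq, pow_mul]; exact pow_mem hgpD q
        rw [hm'eq, mul_assoc, ← (hDU _ hd x hxU).eq, ← mul_assoc] at hm'p ⊢
        exact hUD _ (mul_mem (hEU he) hxU) _ hd hm'p)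
      obtain ⟨hwE, hwc⟩ := commutator_mem_center hG hE2 he x
      set w := x * e * x⁻¹ * e⁻¹ with hw
      set d := w * (e₀⁻¹) ^ i with hd
      have hdE : d ∈ E := mul_mem hwE (pow_mem (inv_mem he₀E) i)
      have hwi : Commute w ((e₀⁻¹) ^ i) := (mem_center_iff.mp hwc _).symm
      obtain ⟨huE, huc⟩ := commutator_mem_center hG hE2 hdE x
      set u := x * d * x⁻¹ * d⁻¹ with hu
      have hxa : x * (e * g ^ i) * x⁻¹ = d * (e * g ^ i) := by
        calc x * (e * g ^ i) * x⁻¹ = (x * e * x⁻¹) * (x * g * x⁻¹) ^ i := by rw [conj_pow]; group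
          _ = w * e * ((e₀⁻¹) ^ i * g ^ i) := by
              rw [hxg, (hge (inv_mem he₀E)).mul_pow, hw, inv_mul_cancel_right]
          _ = w * (e * (e₀⁻¹) ^ i) * g ^ i := by group
          _ = _ := by
              rw [PGroup.mul_comm_of_elementaryAbelian hE he (pow_mem (inv_mem he₀E) i), hd]
              simp only [mul_assoc]
      have hf' := mul_pow_formula (a := e * g ^ i) (x := x) (d := d) (e := u)
        (Commute.mul_left (show Commute e d from PGroup.mul_comm_of_elementaryAbelian hE he hdE)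
          (((hge hdE).symm).pow_left i))
        (mem_center_iff.mp huc d) hxa (by rw [hu]; group)
        (by rw [mem_center_iff.mp huc x, mul_inv_cancel_right]) p
      rw [← hm'eq, hm'p, (show Commute e (g ^ i) from (hge he).pow_right i).mul_pow, hE.2 e he, one_mul,
        pow_choose_eq_one (hE.2 d hdE) (dvd_choose_two hp hp2), mul_one, hxp, mul_one, ← pow_mul] at hf'
      by_cases hp3 : 3 < p
      · rw [pow_choose_eq_one (hE.2 u huE) (dvd_choose_three hp hp3), mul_one] at hf'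
        have h := orderOf_dvd_of_pow_eq_one hf'.symm
        rw [hgo, pow_succ] at h
        exact absurd ((dvd_pow_self p (by omega)).trans (Nat.dvd_of_mul_dvd_mul_right hp.pos h)) hpi
      · have hp3' : p = 3 := by have := hp.two_le; omega
        refine ⟨hp3', ?_⟩
        have h1 : (g ^ (i * p)) ^ p = 1 := by
          rw [eq_inv_of_mul_eq_one_left hf'.symm, inv_pow, ← pow_mul, mul_comm, pow_mul, hE.2 u huE, one_pow,
            inv_one]
        rw [← pow_mul] at h1
        have h := orderOf_dvd_of_pow_eq_one h1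
        rw [hgo, pow_succ] at h
        have h2 := Nat.dvd_of_mul_dvd_mul_right hp.pos h
        by_contra hne
        have h3 : p ^ 2 ∣ i * p := (pow_dvd_pow p (by omega)).trans h2
        rw [sq] at h3
        exact hpi (Nat.dvd_of_mul_dvd_mul_right hp.pos h3)
    constructor
    swap
    · intro hp3
      have hMU' : ∀ m ∈ M, m ^ p = 1 → m ∈ U := fun m hm hmp => by
        by_contra h
        exact absurd (hkey m hm hmp h).1 (by omega)
      have htop := hMtop hMU'
      exact ⟨U, hUexp, fun a ha => hMU' a (htop ▸ mem_top a) ha⟩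
    by_cases htop : M = ⊤
    · refine Or.inr (Or.inl ?_)
      have hGdec : ∀ a : G, ∃ e ∈ E, ∃ i j : ℕ, a = e * g ^ i * x ^ j := fun a => by
        obtain ⟨c, hc, hcM, j, rfl⟩ := hMdec a (htop ▸ mem_top a)
        obtain ⟨e, he, i, rfl⟩ := hCM c hc hcM
        exact ⟨e, he, i, j, rfl⟩
      have hCeq : E ⊔ zpowers g = C := le_antisymm (sup_le hEC (zpowers_le.mpr hgC)) fun c hc => by
        obtain ⟨e, he, i, rfl⟩ := hCM c hc (htop ▸ mem_top c)
        exact mul_mem (mem_sup_left he) (mem_sup_right (pow_mem (mem_zpowers g) i))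
      have hzg : z ∈ zpowers (g ^ p) := hDle hzD
      have hzg' : z ∈ zpowers g := zpowers_le.mpr (pow_mem (mem_zpowers g) p) hzg
      have hinf : E ⊓ zpowers g = zpowers z := le_antisymm (fun a ha => by
        obtain ⟨i, rfl⟩ := exists_npow ha.2
        have h := orderOf_dvd_of_pow_eq_one (x := g) (n := i * p) (by rw [pow_mul, hE.2 _ ha.1])
        rw [hgo, pow_succ] at h
        obtain ⟨q, hq⟩ := (dvd_pow_self p (by omega)).trans (Nat.dvd_of_mul_dvd_mul_right hp.pos h)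
        exact hDz _ (by rw [hq, pow_mul]; exact pow_mem hgpD q) (hE.2 _ ha.1))
        (zpowers_le.mpr ⟨hf.zE, hzg'⟩)
      have hcard := card_sup_mul_card_inf E (zpowers g)
      rw [hCeq, hinf, hzord, hE2, Nat.card_zpowers, hgo] at hcard
      have hsupx : C ⊔ zpowers x = ⊤ := top_le_iff.mp fun a _ => by
        obtain ⟨e, he, i, j, rfl⟩ := hGdec a
        exact mul_mem (mem_sup_left (mul_mem (hEC he) (pow_mem hgC i))) (mem_sup_right (pow_mem (mem_zpowers x) j))
      have hGcard : Nat.card C * p = p ^ n := by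
        rw [← hn, ← card_top (G := G), ← hsupx, PGroup.card_sup_zpowers (p := p) C
          (fun h => hp.not_dvd_one (hxC 1 (by rwa [pow_one]))) (by rw [hxp]; exact one_mem _)]
      have hnk : n = k + 3 := by
        rw [hGcard, ← pow_add] at hcard
        have := Nat.pow_right_injective hp.two_le hcard
        omega
      set u := x⁻¹ with hu
      set y₁ := u * e₀ * u⁻¹ with hy₁
      have hy₁E : y₁ ∈ E := (inferInstance : E.Normal).conj_mem _ he₀E u
      obtain ⟨hwE, hwc⟩ := commutator_mem_center hG hE2 hy₁E u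
      set w := u * y₁ * u⁻¹ * y₁⁻¹ with hw
      have hug : u * g * u⁻¹ = y₁ * g := by rw [hy₁, he₀, hu]; group
      have hw1 : w ≠ 1 := by
        intro h1
        have hc : u * y₁ * u⁻¹ = y₁ := mul_inv_eq_one.mp h1
        have hy₁e : y₁ = e₀ := mul_left_cancel (mul_right_cancel (hc.trans hy₁))
        rw [hy₁e] at hc
        obtain ⟨a, b, hab⟩ := hf.gen e₀ he₀E
        have hc2 : x ^ 1 * y ^ b * (x ^ 1)⁻¹ = y ^ b := by
          have hxe : Commute x e₀ := by
            have h' : Commute u e₀ := mul_inv_eq_iff_eq_mul.mp hc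
            rw [hu] at h'; exact Commute.inv_left_iff.mp h'
          rw [hab] at hxe
          have := ((hf.zcomm x).symm.pow_right a).inv_right.mul_right hxe
          rw [inv_mul_cancel_left] at this
          rw [pow_one, this.eq, mul_inv_cancel_right]
        rw [hxyj, one_mul, mul_eq_right, hyord] at hc2
        rw [hab, pow_choose_eq_one hyp hc2, mul_one] at hgz
        exact hgz (pow_mem (mem_zpowers z) a)
      have hwz : w ∈ zpowers g := zpowers_le.mpr hzg' (hf.cent w hwE hwc)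
      obtain ⟨t, ht, htw⟩ := exists_eq_pow_mul hgo hwz (hE.2 w hwE) hw1
      obtain ⟨s, j, hs, hj, hst⟩ : ∃ s j : ℕ, (s = 1 ∨ ¬ IsSquare (s : ZMod p)) ∧ ¬ p ∣ j ∧
          ((t * (j * j) : ℕ) : ZMod p) = (s : ℕ) := by
        by_cases hsq : IsSquare (t : ZMod p)
        · obtain ⟨r, hr'⟩ := hsq
          have ht0 : (t : ZMod p) ≠ 0 := fun h => ht ((ZMod.natCast_eq_zero_iff t p).mp h)
          have hr0 : r ≠ 0 := by rintro rfl; rw [mul_zero] at hr'; exact ht0 hr'
          refine ⟨1, (r⁻¹).val, Or.inl rfl, fun h => ?_, ?_⟩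
          · rw [← ZMod.natCast_eq_zero_iff, ZMod.natCast_zmod_val, inv_eq_zero] at h
            exact hr0 h
          · push_cast
            rw [ZMod.natCast_zmod_val, hr']
            field_simp
        · exact ⟨t, 1, Or.inr hsq, hp.not_dvd_one, by simp⟩
      have hgy : Commute g y₁ := (hge hy₁E).symm
      have h1 := PGroup.conj_pow_formula (x := u) (h := g) (d := y₁) (e := w)
        (mem_center_iff.mp hwc y₁) hgy (mem_center_iff.mp hwc g) hug (by rw [hw]; group)
        (by rw [mem_center_iff.mp hwc u, mul_inv_cancel_right]) j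
      have h2 : u ^ j * y₁ * (u ^ j)⁻¹ = y₁ * w ^ j := by
        have := PGroup.conj_pow_formula (x := u) (h := y₁) (d := w) (e := (1 : G))
          (Commute.one_right _) (mem_center_iff.mp hwc y₁) (Commute.one_right _) (by rw [hw]; group)
          (by rw [mem_center_iff.mp hwc u]; group) (by group) j
        rwa [one_pow, mul_one] at this
      set y₂ := y₁ ^ j * w ^ j.choose 2 with hy₂
      have hy₂E : y₂ ∈ E := mul_mem (pow_mem hy₁E j) (pow_mem hwE _)
      have hinvj : (x ^ j)⁻¹ = u ^ j := by rw [hu, inv_pow]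
      have hxj : x ^ j = (u ^ j)⁻¹ := by rw [← hinvj, inv_inv]
      refine ⟨by omega, s, x ^ j, y₂, g, hs, ?_, by rw [← pow_mul, mul_comm, pow_mul, hxp, one_pow],
        hE.2 _ hy₂E, by rw [show n - 2 = k + 1 by omega, ← hgo, pow_orderOf_eq_one], (hge hy₂E).eq, ?_, ?_⟩
      · refine top_le_iff.mp fun a _ => ?_
        set L := closure ({x ^ j, y₂, g} : Set G)
        have hgL : g ∈ L := subset_closure (by simp)
        have hxL : x ∈ L := by
          obtain ⟨l, hl⟩ := mem_zpowers_of_pow_notDvd hp hxp hj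
          rw [← hl, pow_mul]
          exact pow_mem (subset_closure (by simp)) l
        have hEL : E ≤ L := hEgen ▸ sup_le (zpowers_le.mpr (zpowers_le.mpr hgL hzg'))
          (zpowers_le.mpr (mul_mem (mul_mem (mul_mem hgL hxL) (inv_mem hgL)) (inv_mem hxL)))
        obtain ⟨e, he, i, l, rfl⟩ := hGdec a
        exact mul_mem (mul_mem (hEL he) (pow_mem hgL i)) (pow_mem hxL l)
      · rw [hinvj, hxj]
        calc u ^ j * y₂ * (u ^ j)⁻¹ = (u ^ j * y₁ * (u ^ j)⁻¹) ^ j * (u ^ j * w ^ j.choose 2 * (u ^ j)⁻¹) := by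
              rw [hy₂, conj_pow (a := u ^ j) (b := y₁)]; group
          _ = y₂ * w ^ (j * j) := by
              rw [h2, mem_center_iff.mp (pow_mem hwc _) (u ^ j), mul_inv_cancel_right,
                (show Commute y₁ (w ^ j) from mem_center_iff.mp (pow_mem hwc j) y₁).mul_pow, ← pow_mul, hy₂,
                mul_assoc, mul_assoc, ← pow_add, ← pow_add, add_comm]
          _ = y₂ * g ^ (s * p ^ (n - 3)) := by
              rw [htw, ← pow_mul, show n - 3 = k by omega]
              congr 1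
              rw [show t * p ^ k * (j * j) = t * (j * j) * p ^ k by ring]
              exact pow_mul_pow_congr hgo hst
      · rw [hinvj, hxj, h1, hy₂, mul_assoc]
        exact (mem_centralizer_iff.mp hgC _ hy₂E).symm
    · obtain ⟨m, hmM, hmp, hmU⟩ : ∃ m ∈ M, m ^ p = 1 ∧ m ∉ U := by
        by_contra h
        push Not at h
        exact htop (hMtop h)
      obtain ⟨hp3, hk1'⟩ := hkey m hmM hmp hmU
      have hDz' : D = zpowers z := (eq_of_le_of_card_ge (zpowers_le.mpr hzD) (by rw [hk, hk1', pow_one, hzord])).symm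
      have hn3 : 3 ≤ n := (Nat.pow_dvd_pow_iff_le_right hp.one_lt).mp
        (hn ▸ hUcard ▸ card_subgroup_dvd_card U)
      have hBna : ¬ IsMulCommutative U := fun h => by
        have h1 : x * y = y * x := PGroup.mul_comm_of_isMulCommutative h hxU (hEU hf.yE)
        refine hf.z1 ((mul_eq_right (b := y)).mp ?_)
        rw [← hf.xy, h1, mul_inv_cancel_right]
      have hcent : centralizer (U : Set G) ≤ U := fun c hc => by
        have : c ∈ D := ⟨mem_centralizer_iff.mpr fun e he => mem_centralizer_iff.mp hc e (hEU he),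
          mem_centralizer_singleton_iff.mpr (mem_centralizer_iff.mp hc x hxU).symm⟩
        rw [hDz'] at this
        exact hEU (zpowers_le.mpr hf.zE this)
      exact Or.inr (Or.inr ⟨hp3, by omega,
        PGroup.lcs_ne_bot_of_maximal hn3 hn (S4143.result n hn U hUcard hBna hcent)⟩)

end Cfsg.Agent.RankTwoClass
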