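import Cfsg.Agent.Lib.RankTwoClass.Main
import Cfsg.Agent.Lib.Fusion.Stabilizer

/-!
# Non-metacyclic `p`-groups of rank two, `p ≥ 5`: self-centralizing subgroups

* `Shape`: the structure `G = C ⋊ ⟨x⟩`, `C = C(E)` abelian, `C ⊓ C(x)` cyclic and central.
* `exists_shape`, and `Shape.cases`: a proper self-centralizing `R` either has an element of its normalizer
  outside it stabilizing an invariant series, or is one of the two `GL₂` configurations, in which case
  automorphisms of `G` act on `G/C` by `±1`.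
-/

set_option autoImplicit false

namespace Cfsg.Agent.RankTwoClass

open Subgroup
open scoped commutatorElement

universe u

variable {G : Type u} [Group G] {p : ℕ}

/-- `G = C(E)⟨x⟩` with `C(E)` abelian and `⁅C(E), x⁆ ≤ E`. -/
structure Shape (G : Type u) [Group G] (p : ℕ) (E : Subgroup G) (x y z : G) : Prop where
  big : 3 < p
  pg : IsPGroup p G
  rank : Cfsg.PRankLE p 2 G
  frame : Frame G p E x y z
  el : Cfsg.IsElementaryAbelian p E
  card2 : Nat.card E = p ^ 2
  ab : ∀ a ∈ centralizer (E : Set G), ∀ b ∈ centralizer (E : Set G), Commute a b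
  commX : ∀ c ∈ centralizer (E : Set G), ⁅x, c⁆ ∈ E
  cyc : IsCyclic ↥(centralizer (E : Set G) ⊓ centralizer ({x} : Set G))

/-- A subgroup of `R` preserved by all automorphisms of `R`. -/
def AutInv (R M : Subgroup G) : Prop :=
  ∀ (α : MulAut R) (m : R), (m : G) ∈ M → ((α m : R) : G) ∈ M

theorem comm_hom_right {a c c' : G} (hc : Commute c ⁅a, c'⁆) : ⁅a, c * c'⁆ = ⁅a, c⁆ * ⁅a, c'⁆ := by
  rw [commutatorElement_mul_right_eq_mul_conj, mul_assoc ⁅a, c⁆, hc.eq, mul_assoc, mul_inv_cancel_right]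

variable [Finite G] [Fact p.Prime]

theorem exists_shape (hp : 3 < p) (hG : IsPGroup p G) (hr : Cfsg.PRankLE p 2 G) (hm : ¬ Cfsg.IsMetacyclic G) :
    ∃ E : Subgroup G, ∃ x y z : G, E.Normal ∧ Shape G p E x y z := by
  have hp' : p.Prime := Fact.out
  have hp2 : p ≠ 2 := by omega
  have hnc : ¬ IsCyclic G := fun h => hm (isMetacyclic_of_isCyclic h)
  obtain ⟨E, hEn, hE, hE2⟩ := S0126.result hp2 hG hnc
  obtain ⟨x, hxp, hxE⟩ : ∃ x : G, x ^ p = 1 ∧ x ∉ E := by
    by_contra h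
    push Not at h
    exact hm (isMetacyclic_of_omega hp hG hE2.le h)
  obtain ⟨y, z, hf⟩ := exists_frame hp2 hG hr hE hE2 hxp hxE
  obtain ⟨n, hn⟩ := IsPGroup.iff_card.mp hG
  obtain ⟨U, hU, hall⟩ := (outside hp2 hn hr hE hE2 hxp hxE).2 hp
  set C := centralizer (E : Set G) with hC
  have hEC : E ≤ C := PGroup.le_centralizer_of_isMulCommutative hE.1
  have hzp : z ^ p = 1 := hE.2 z hf.zE
  have hyp : y ^ p = 1 := hE.2 y hf.yE
  have hcE : ∀ c ∈ C, ∀ e ∈ E, Commute c e := fun c hc e he => (mem_centralizer_iff.mp hc e he).symm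
  have hcom : ∀ c ∈ C, ⁅x, c⁆ ∈ E := fun c hc => by
    have hU' : ⁅x, c⁆ ∈ U := by
      rw [commutatorElement_def, mul_assoc x c, mul_assoc x]
      refine mul_mem (hall x hxp) (hall _ ?_)
      rw [conj_pow, inv_pow, hxp, inv_one, mul_one, mul_inv_cancel]
    refine mem_of_centralizer hp2 hG hr hE hE2 ?_ (hU _ hU')
    rw [commutatorElement_def]
    exact mul_mem ((inferInstance : C.Normal).conj_mem c hc x) (inv_mem hc)
  have hhom : ∀ c ∈ C, ∀ c' ∈ C, ⁅x, c * c'⁆ = ⁅x, c⁆ * ⁅x, c'⁆ := fun c hc c' hc' =>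
    comm_hom_right (hcE c hc _ (hcom c' hc'))
  have hhpow : ∀ c ∈ C, ∀ i : ℕ, ⁅x, c ^ i⁆ = ⁅x, c⁆ ^ i := by
    intro c hc i
    induction i with
    | zero => simp
    | succ i ih => rw [pow_succ, hhom _ (pow_mem hc i) c hc, ih, pow_succ]
  set D := C ⊓ centralizer ({x} : Set G) with hD
  have hDm : ∀ {c : G}, c ∈ D ↔ c ∈ C ∧ ⁅x, c⁆ = 1 := by
    intro c
    rw [hD, mem_inf, mem_centralizer_singleton_iff, commutatorElement_eq_one_iff_mul_comm]
    exact and_congr_right fun _ => eq_comm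
  have hxy : ⁅x, y⁆ = z := by rw [commutatorElement_def, hf.xy, mul_inv_cancel_right]
  have hxz : ⁅x, z⁆ = 1 := commutatorElement_eq_one_iff_mul_comm.mpr (mem_center_iff.mp hf.zc x)
  have hgenE : ∀ e ∈ E, ∃ i j : ℕ, e = z ^ i * y ^ j ∧ ⁅x, e⁆ = z ^ j := fun e he => by
    obtain ⟨i, j, rfl⟩ := hf.gen e he
    refine ⟨i, j, rfl, ?_⟩
    rw [hhom _ (pow_mem (hEC hf.zE) i) _ (pow_mem (hEC hf.yE) j), hhpow z (hEC hf.zE), hxz, one_pow, one_mul,
      hhpow y (hEC hf.yE), hxy]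
  have hzord : Nat.card (zpowers z) = p := by rw [Nat.card_zpowers, orderOf_eq_prime hzp hf.z1]
  have hsol : ∀ c ∈ C, c ^ p = 1 → ⁅x, c⁆ ∈ zpowers z → ⁅x, c⁆ = 1 → c ∈ zpowers z := by
    intro c hc hcp _ h1
    obtain ⟨i, j, rfl, hj⟩ := hgenE c (mem_of_centralizer hp2 hG hr hE hE2 hc hcp)
    rw [hj, pow_eq_one_iff_dvd hzp hf.z1] at h1
    rw [pow_choose_eq_one hyp h1, mul_one]
    exact pow_mem (mem_zpowers z) i
  have hcyc : IsCyclic D := by
    refine RankTwo.isCyclic_of_card_pow_le hp2 (hG.to_subgroup D) (le_trans ?_ hzord.le)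
    refine Nat.card_le_card_of_injective
      (fun d => (⟨(d.1 : G), hsol _ d.1.2.1 (by simpa using congrArg Subtype.val d.2)
        ((hDm.mp d.1.2).2 ▸ one_mem _) (hDm.mp d.1.2).2⟩ : zpowers z)) ?_
    intro a b hab
    exact Subtype.ext (Subtype.ext (congrArg (fun t : zpowers z => (t : G)) hab))
  refine ⟨E, x, y, z, hEn, ⟨hp, hG, hr, hf, hE, hE2, ?_, hcom, hcyc⟩⟩
  -- `C` is abelian
  have hDD : ∀ a ∈ D, ∀ b ∈ D, Commute a b := fun a ha b hb =>
    congrArg Subtype.val (hcyc.isMulCommutative.is_comm.comm ⟨a, ha⟩ ⟨b, hb⟩)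
  have hred : ∀ c ∈ C, ⁅x, c⁆ ∈ zpowers z → ∃ e ∈ E, ∃ d ∈ D, c = e * d := by
    intro c hc hcz
    obtain ⟨i, hi⟩ := exists_npow hcz
    have hyi : (y ^ i)⁻¹ ∈ C := inv_mem (pow_mem (hEC hf.yE) i)
    have hd : (y ^ i)⁻¹ * c ∈ D := hDm.mpr ⟨mul_mem hyi hc, by
      have h2 := hhom _ (pow_mem (hEC hf.yE) i) _ hyi
      rw [mul_inv_cancel, commutatorElement_one_right, hhpow y (hEC hf.yE), hxy] at h2
      rw [hhom _ hyi c hc, eq_inv_of_mul_eq_one_right h2.symm, hi, inv_mul_cancel]⟩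
    exact ⟨y ^ i, pow_mem hf.yE i, _, hd, by group⟩
  by_cases hall' : ∀ c ∈ C, ⁅x, c⁆ ∈ zpowers z
  · intro a ha b hb
    obtain ⟨e, he, d, hd, rfl⟩ := hred a ha (hall' a ha)
    obtain ⟨e', he', d', hd', rfl⟩ := hred b hb (hall' b hb)
    exact ((hcE _ hb e he).symm).mul_left ((hcE d hd.1 e' he').mul_right (hDD d hd d' hd'))
  push Not at hall'
  obtain ⟨g, hgC, hgz⟩ := hall'
  set e₀ := ⁅x, g⁆ with he₀
  have he₀p : e₀ ^ p = 1 := hE.2 _ (hcom g hgC)
  have hzn : (zpowers z).Normal := ⟨fun w hw g => by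
    rw [mem_center_iff.mp (zpowers_le.mpr hf.zc hw) g, mul_inv_cancel_right]; exact hw⟩
  have hEgen : zpowers z ⊔ zpowers e₀ = E := by
    refine eq_of_le_of_card_ge (sup_le (zpowers_le.mpr hf.zE) (zpowers_le.mpr (hcom g hgC))) ?_
    rw [PGroup.card_sup_zpowers (p := p) _ hgz (by rw [he₀p]; exact one_mem _), hzord, hE2, sq]
  let K : Subgroup G :=
    { carrier := {c | c ∈ C ∧ ⁅x, c⁆ ∈ zpowers e₀}
      one_mem' := ⟨one_mem _, by rw [commutatorElement_one_right]; exact one_mem _⟩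
      mul_mem' := fun {a b} ha hb => ⟨mul_mem ha.1 hb.1, by rw [hhom a ha.1 b hb.1]; exact mul_mem ha.2 hb.2⟩
      inv_mem' := fun {a} ha => ⟨inv_mem ha.1, by
        have h := hhom a ha.1 a⁻¹ (inv_mem ha.1)
        rw [mul_inv_cancel, commutatorElement_one_right] at h
        rw [eq_inv_of_mul_eq_one_right h.symm]
        exact inv_mem ha.2⟩ }
  have hK : IsCyclic K := by
    refine RankTwo.isCyclic_of_card_pow_le hp2 (hG.to_subgroup K) (le_trans ?_ hzord.le)
    have key : ∀ c ∈ K, c ^ p = 1 → c ∈ zpowers z := by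
      rintro c ⟨hc, hce⟩ hcp
      obtain ⟨i, j, -, hj⟩ := hgenE c (mem_of_centralizer hp2 hG hr hE hE2 hc hcp)
      refine hsol c hc hcp (hj ▸ pow_mem (mem_zpowers z) j) ?_
      obtain ⟨l, hl⟩ := exists_npow hce
      by_cases hpl : p ∣ l
      · rw [← hl, pow_choose_eq_one he₀p hpl]
      · obtain ⟨m, hm'⟩ := mem_zpowers_of_pow_notDvd hp' he₀p hpl
        exact absurd (by rw [← hm', pow_mul, hl, hj]; exact pow_mem (pow_mem (mem_zpowers z) j) m) hgz
    refine Nat.card_le_card_of_injective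
      (fun d => (⟨(d.1 : G), key _ d.1.2 (by simpa using congrArg Subtype.val d.2)⟩ : zpowers z)) ?_
    intro a b hab
    exact Subtype.ext (Subtype.ext (congrArg (fun t : zpowers z => (t : G)) hab))
  have hKK : ∀ a ∈ K, ∀ b ∈ K, Commute a b := fun a ha b hb =>
    congrArg Subtype.val (hK.isMulCommutative.is_comm.comm ⟨a, ha⟩ ⟨b, hb⟩)
  have hdec : ∀ c ∈ C, ∃ e ∈ E, ∃ k ∈ K, c = e * k := by
    intro c hc
    have h := hcom c hc
    rw [← hEgen] at h
    obtain ⟨w, hw, v, hv, hwv⟩ := mem_sup_of_normal_left.mp h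
    obtain ⟨i, rfl⟩ := exists_npow hv
    have hgi : (g ^ i)⁻¹ ∈ C := inv_mem (pow_mem hgC i)
    have h2 := hhom (c * (g ^ i)⁻¹) (mul_mem hc hgi) (g ^ i) (pow_mem hgC i)
    rw [inv_mul_cancel_right, hhpow g hgC, ← hwv] at h2
    obtain ⟨e, he, d, hd, hed⟩ := hred _ (mul_mem hc hgi) ((mul_right_cancel h2) ▸ hw)
    have hdK : d ∈ K := ⟨hd.1, by rw [(hDm.mp hd).2]; exact one_mem _⟩
    have hgK : g ∈ K := ⟨hgC, mem_zpowers _⟩
    refine ⟨e, he, d * g ^ i, mul_mem hdK (pow_mem hgK i), ?_⟩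
    rw [← mul_assoc, ← hed, inv_mul_cancel_right]
  intro a ha b hb
  obtain ⟨e, he, d, hd, rfl⟩ := hdec a ha
  obtain ⟨e', he', d', hd', rfl⟩ := hdec b hb
  exact ((hcE _ hb e he).symm).mul_left ((hcE d hd.1 e' he').mul_right (hKK d hd d' hd'))

namespace Shape

variable {E : Subgroup G} [E.Normal] {x y z : G}

local notation "CE" => centralizer (E : Set _)

theorem p2 (h : Shape G p E x y z) : p ≠ 2 := by have := h.big; omega

theorem EC (h : Shape G p E x y z) : E ≤ centralizer (E : Set G) :=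
  PGroup.le_centralizer_of_isMulCommutative h.el.1

theorem hom (h : Shape G p E x y z) (a : G) {c c' : G} (hc : c ∈ centralizer (E : Set G))
    (hc' : c' ∈ centralizer (E : Set G)) : ⁅a, c * c'⁆ = ⁅a, c⁆ * ⁅a, c'⁆ := by
  refine comm_hom_right (h.ab c hc _ ?_)
  rw [commutatorElement_def]
  exact mul_mem ((inferInstance : (centralizer (E : Set G)).Normal).conj_mem c' hc' a) (inv_mem hc')

theorem hpow (h : Shape G p E x y z) (a : G) {c : G} (hc : c ∈ centralizer (E : Set G)) (i : ℕ) :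
    ⁅a, c ^ i⁆ = ⁅a, c⁆ ^ i := by
  induction i with
  | zero => simp
  | succ i ih => rw [pow_succ, h.hom a (pow_mem hc i) hc, ih, pow_succ]

theorem zp (h : Shape G p E x y z) : z ^ p = 1 := h.el.2 z h.frame.zE

theorem xy (h : Shape G p E x y z) : ⁅x, y⁆ = z := by
  rw [commutatorElement_def, h.frame.xy, mul_inv_cancel_right]

theorem commE (h : Shape G p E x y z) (a : G) {e : G} (he : e ∈ E) : ⁅a, e⁆ ∈ zpowers z := by
  obtain ⟨h1, h2⟩ := commutator_mem_center h.pg h.card2 he a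
  exact h.frame.cent _ h1 h2

theorem xC (h : Shape G p E x y z) {j : ℕ} (hj : x ^ j ∈ centralizer (E : Set G)) : p ∣ j := by
  by_contra hd
  obtain ⟨l, hl⟩ := mem_zpowers_of_pow_notDvd (Fact.out : p.Prime) h.frame.xp hd
  have hxC : x ∈ centralizer (E : Set G) := by rw [← hl, pow_mul]; exact pow_mem hj l
  exact h.frame.xE (mem_of_centralizer h.p2 h.pg h.rank h.el h.card2 hxC h.frame.xp)

theorem gen (h : Shape G p E x y z) (a : G) : ∃ c ∈ centralizer (E : Set G), ∃ j : ℕ, a = c * x ^ j := by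
  obtain ⟨c, j, hc, rfl⟩ := h.frame.coset h.pg h.card2 a
  exact ⟨c, hc, j, rfl⟩

theorem commC (h : Shape G p E x y z) (a : G) {c : G} (hc : c ∈ centralizer (E : Set G)) : ⁅a, c⁆ ∈ E := by
  have hx : ∀ j : ℕ, ⁅x ^ j, c⁆ ∈ E := by
    intro j
    induction j with
    | zero => simp
    | succ j ih =>
      rw [pow_succ', commutatorElement_mul_left_eq_conj_mul]
      exact mul_mem ((inferInstance : E.Normal).conj_mem _ ih x) (h.commX c hc)
  obtain ⟨c', hc', j, rfl⟩ := h.gen a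
  rw [commutatorElement_mul_left_eq_conj_mul, commutatorElement_eq_one_iff_mul_comm.mpr (h.ab c' hc' c hc).eq, mul_one]
  exact (inferInstance : E.Normal).conj_mem _ (hx j) c'

theorem commAll (h : Shape G p E x y z) (a b : G) : ⁅a, b⁆ ∈ E := by
  obtain ⟨c, hc, j, rfl⟩ := h.gen b
  rw [commutatorElement_mul_right_eq_mul_conj,
    show ⁅a, c⁆ * c * ⁅a, x ^ j⁆ * c⁻¹ = ⁅a, c⁆ * (c * ⁅a, x ^ j⁆ * c⁻¹) by group]
  refine mul_mem (h.commC a hc) ((inferInstance : E.Normal).conj_mem _ ?_ c)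
  rw [← commutatorElement_inv]
  refine inv_mem ?_
  obtain ⟨c', hc', i, rfl⟩ := h.gen a
  rw [commutatorElement_mul_right_eq_mul_conj, commutatorElement_eq_one_iff_mul_comm.mpr ((Commute.refl x).pow_pow j i).eq]
  simpa using h.commC (x ^ j) hc'

theorem mem_normalizer (h : Shape G p E x y z) {R : Subgroup G} (hER : E ≤ R) (a : G) :
    a ∈ normalizer (R : Set G) :=
  mem_normalizer_of_conj_mem R fun r hr => by
    rw [show a * r * a⁻¹ = ⁅a, r⁆ * r by rw [commutatorElement_def]; group]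
    exact mul_mem (hER (h.commAll a r)) hr

theorem pow_eq (h : Shape G p E x y z) {c : G} (hc : c ∈ centralizer (E : Set G)) (j : ℕ) :
    (c * x ^ j) ^ p = c ^ p := by
  have hp : p.Prime := Fact.out
  have hd := h.commC (x ^ j) hc
  obtain ⟨hu, huc⟩ := commutator_mem_center h.pg h.card2 hd (x ^ j)
  rw [mul_pow_formula (a := c) (x := x ^ j) (d := ⁅x ^ j, c⁆) (e := x ^ j * ⁅x ^ j, c⁆ * (x ^ j)⁻¹ * ⁅x ^ j, c⁆⁻¹)
    (h.ab c hc _ (h.EC hd)) (mem_center_iff.mp huc _) (by rw [commutatorElement_def]; group) (by group)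
    (by rw [mem_center_iff.mp huc (x ^ j), mul_inv_cancel_right]) p,
    pow_choose_eq_one (h.el.2 _ hd) (dvd_choose_two hp h.p2), mul_one,
    pow_choose_eq_one (h.el.2 _ hu) (dvd_choose_three hp h.big), mul_one,
    ← pow_mul, mul_comm j, pow_mul, h.frame.xp, one_pow, mul_one]

theorem memN (h : Shape G p E x y z) {c : G} :
    c ∈ centralizer (E : Set G) ⊓ centralizer ({x} : Set G) ↔ c ∈ centralizer (E : Set G) ∧ ⁅x, c⁆ = 1 := by
  rw [mem_inf, mem_centralizer_singleton_iff, commutatorElement_eq_one_iff_mul_comm]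
  exact and_congr_right fun _ => eq_comm

theorem central (h : Shape G p E x y z) {c : G} (hc : c ∈ centralizer (E : Set G) ⊓ centralizer ({x} : Set G)) :
    c ∈ center G := by
  rw [mem_center_iff]
  intro a
  obtain ⟨c', hc', j, rfl⟩ := h.gen a
  exact ((h.ab c' hc' c hc.1).mul_left
    ((show Commute x c from (mem_centralizer_singleton_iff.mp hc.2).symm).pow_left j)).eq

theorem powN (h : Shape G p E x y z) (a : G) :
    a ^ p ∈ centralizer (E : Set G) ⊓ centralizer ({x} : Set G) := by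
  obtain ⟨c, hc, j, rfl⟩ := h.gen a
  rw [h.pow_eq hc]
  exact h.memN.mpr ⟨pow_mem hc p, by rw [h.hpow x hc, h.el.2 _ (h.commX c hc)]⟩

theorem zN (h : Shape G p E x y z) : z ∈ centralizer (E : Set G) ⊓ centralizer ({x} : Set G) :=
  h.memN.mpr ⟨h.EC h.frame.zE, commutatorElement_eq_one_iff_mul_comm.mpr (mem_center_iff.mp h.frame.zc x)⟩

theorem commXE (h : Shape G p E x y z) (i j : ℕ) : ⁅x, z ^ i * y ^ j⁆ = z ^ j := by
  rw [h.hom x (pow_mem (h.EC h.frame.zE) i) (pow_mem (h.EC h.frame.yE) j), h.hpow x (h.EC h.frame.zE),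
    (h.memN.mp h.zN).2, one_pow, one_mul, h.hpow x (h.EC h.frame.yE), h.xy]

theorem omegaN (h : Shape G p E x y z) {c : G} (hc : c ∈ centralizer (E : Set G) ⊓ centralizer ({x} : Set G))
    (hcp : c ^ p = 1) : c ∈ zpowers z :=
  h.frame.cent c (mem_of_centralizer h.p2 h.pg h.rank h.el h.card2 hc.1 hcp) (h.central hc)

theorem split (h : Shape G p E x y z) {c : G} (hc : c ∈ centralizer (E : Set G)) (hcz : ⁅x, c⁆ ∈ zpowers z) :
    ∃ e ∈ E, ∃ d ∈ centralizer (E : Set G) ⊓ centralizer ({x} : Set G), c = e * d := by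
  obtain ⟨i, hi⟩ := exists_npow hcz
  have hy := h.EC h.frame.yE
  have hd : (y ^ i)⁻¹ * c ∈ centralizer (E : Set G) ⊓ centralizer ({x} : Set G) := by
    refine h.memN.mpr ⟨mul_mem (inv_mem (pow_mem hy i)) hc, ?_⟩
    have h2 := h.hom x (pow_mem hy i) (inv_mem (pow_mem hy i))
    rw [mul_inv_cancel, commutatorElement_one_right, h.hpow x hy, h.xy] at h2
    rw [h.hom x (inv_mem (pow_mem hy i)) hc, eq_inv_of_mul_eq_one_right h2.symm, hi, inv_mul_cancel]
  exact ⟨y ^ i, pow_mem h.frame.yE i, _, hd, by group⟩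

theorem pow_commute (h : Shape G p E x y z) (a : G) {c : G} (hc : c ∈ centralizer (E : Set G)) (m : ℕ) :
    ∃ w ∈ zpowers z, ⁅a ^ m, c⁆ = w * ⁅a, c⁆ ^ m := by
  induction m with
  | zero => exact ⟨1, one_mem _, by simp⟩
  | succ m ih =>
    obtain ⟨w, hw, he⟩ := ih
    refine ⟨⁅a, ⁅a ^ m, c⁆⁆ * w, mul_mem (h.commE a (h.commC (a ^ m) hc)) hw, ?_⟩
    rw [pow_succ', commutatorElement_mul_left_eq_conj_mul, show a * ⁅a ^ m, c⁆ * a⁻¹ = ⁅a, ⁅a ^ m, c⁆⁆ * ⁅a ^ m, c⁆ by
      rw [commutatorElement_def a]; group, mul_assoc, he, mul_assoc, mul_assoc, ← pow_succ]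

theorem pow_commuteE (h : Shape G p E x y z) (a : G) {e : G} (he : e ∈ E) (m : ℕ) :
    ⁅a ^ m, e⁆ = ⁅a, e⁆ ^ m := by
  induction m with
  | zero => simp
  | succ m ih =>
    have hc := mem_center_iff.mp (zpowers_le.mpr h.frame.zc (h.commE (a ^ m) he)) a
    rw [pow_succ', commutatorElement_mul_left_eq_conj_mul, hc, mul_inv_cancel_right, ih, pow_succ]

/-- Automorphisms act on `G/C(E)` by `±1` when `⁅C(E), x⁆` is not central. -/
theorem key (h : Shape G p E x y z) {g : G} (hgC : g ∈ centralizer (E : Set G)) (hgz : ⁅x, g⁆ ∉ zpowers z)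
    (ψ : MulAut G) {r : G} (hrC : r ∉ centralizer (E : Set G)) {m : ℕ}
    (hψ : (r ^ m)⁻¹ * ψ r ∈ centralizer (E : Set G)) : ((m * m : ℕ) : ZMod p) = 1 := by
  have hp : p.Prime := Fact.out
  have hzn : (zpowers z).Normal := ⟨fun w hw g => by
    rw [mem_center_iff.mp (zpowers_le.mpr h.frame.zc hw) g, mul_inv_cancel_right]; exact hw⟩
  obtain ⟨c₀, hc₀, j, hrj⟩ := h.gen r
  have hj : ¬ p ∣ j := fun hd => hrC (by rw [hrj, pow_choose_eq_one h.frame.xp hd, mul_one]; exact hc₀)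
  -- the commutator `e₁ = ⁅r, g⁆`
  set e₁ := ⁅r, g⁆ with he₁
  have he₁E : e₁ ∈ E := h.commC r hgC
  have he₁z : e₁ ∉ zpowers z := by
    obtain ⟨w, hw, hwe⟩ := h.pow_commute x hgC j
    have hx' : ⁅x ^ j, g⁆ ∉ zpowers z := fun hm => by
      rw [hwe, Subgroup.mul_mem_cancel_left _ hw] at hm
      obtain ⟨l, hl⟩ := mem_zpowers_of_pow_notDvd hp (h.el.2 _ (h.commX g hgC)) hj
      exact hgz (by rw [← hl, pow_mul]; exact pow_mem hm l)
    intro hm
    refine hx' ?_
    have h1 : e₁ = c₀ * ⁅x ^ j, g⁆ * c₀⁻¹ := by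
      rw [he₁, hrj, commutatorElement_mul_left_eq_conj_mul, commutatorElement_eq_one_iff_mul_comm.mpr (h.ab c₀ hc₀ g hgC).eq,
        mul_one]
    rwa [h1, (h.ab c₀ hc₀ _ (h.EC (h.commC _ hgC))).eq, mul_inv_cancel_right] at hm
  set z₁ := ⁅r, e₁⁆ with hz₁
  have hz₁z : z₁ ∈ zpowers z := h.commE r he₁E
  have hEgen : zpowers z ⊔ zpowers e₁ = E := by
    refine eq_of_le_of_card_ge (sup_le (zpowers_le.mpr h.frame.zE) (zpowers_le.mpr he₁E)) ?_
    rw [PGroup.card_sup_zpowers (p := p) _ he₁z (by rw [h.el.2 _ he₁E]; exact one_mem _), Nat.card_zpowers,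
      orderOf_eq_prime h.zp h.frame.z1, h.card2, sq]
  have hz₁1 : z₁ ≠ 1 := fun h1 => hrC (mem_centralizer_iff.mpr fun e he => by
    have hle : zpowers z ⊔ zpowers e₁ ≤ centralizer ({r} : Set G) := sup_le
      (zpowers_le.mpr (mem_centralizer_singleton_iff.mpr (mem_center_iff.mp h.frame.zc r).symm))
      (zpowers_le.mpr (mem_centralizer_singleton_iff.mpr (commutatorElement_eq_one_iff_mul_comm.mp h1).symm))
    rw [hEgen] at hle
    exact mem_centralizer_singleton_iff.mp (hle he))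
  -- `ψ` preserves `E` and `C(E)`
  have hEcomm : E = _root_.commutator G := by
    refine le_antisymm ?_ ?_
    · rw [← hEgen]
      refine sup_le (zpowers_le.mpr ?_) (zpowers_le.mpr (commutator_mem_commutator (mem_top r) (mem_top g)))
      rw [← h.xy]
      exact commutator_mem_commutator (mem_top x) (mem_top y)
    · rw [commutator_eq_closure, closure_le]
      rintro _ ⟨a, b, rfl⟩
      exact h.commAll a b
  have hψE : ∀ e ∈ E, ψ e ∈ E := fun e he => by
    have hc : (_root_.commutator G).map ψ.toMonoidHom = _root_.commutator G :=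
      characteristic_iff_map_eq.mp inferInstance ψ
    rw [hEcomm] at he ⊢
    exact hc.le (mem_map_of_mem _ he)
  have hψC : ∀ c ∈ centralizer (E : Set G), ψ c ∈ centralizer (E : Set G) := fun c hc => by
    rw [mem_centralizer_iff]
    intro e he
    have he' : ψ.symm e ∈ E := by
      have hc : (_root_.commutator G).map ψ.symm.toMonoidHom = _root_.commutator G :=
        characteristic_iff_map_eq.mp inferInstance ψ.symm
      rw [SetLike.mem_coe, hEcomm] at he
      rw [hEcomm]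
      exact hc.le (mem_map_of_mem _ he)
    have := congrArg ψ (mem_centralizer_iff.mp hc _ he')
    rwa [map_mul, map_mul, ψ.apply_symm_apply] at this
  -- `N ≤ ⟨g^p⟩`
  set e₀ := ⁅x, g⁆ with he₀
  have he₀p : e₀ ^ p = 1 := h.el.2 _ (h.commX g hgC)
  let K : Subgroup G :=
    { carrier := {c | c ∈ centralizer (E : Set G) ∧ ⁅x, c⁆ ∈ zpowers e₀}
      one_mem' := ⟨one_mem _, by rw [commutatorElement_one_right]; exact one_mem _⟩
      mul_mem' := fun {a b} ha hb => ⟨mul_mem ha.1 hb.1, by rw [h.hom x ha.1 hb.1]; exact mul_mem ha.2 hb.2⟩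
      inv_mem' := fun {a} ha => ⟨inv_mem ha.1, by
        have h' := h.hom x ha.1 (inv_mem ha.1)
        rw [mul_inv_cancel, commutatorElement_one_right] at h'
        rw [eq_inv_of_mul_eq_one_right h'.symm]
        exact inv_mem ha.2⟩ }
  have hzord : Nat.card (zpowers z) = p := by rw [Nat.card_zpowers, orderOf_eq_prime h.zp h.frame.z1]
  have hK : IsCyclic K := by
    refine RankTwo.isCyclic_of_card_pow_le h.p2 (h.pg.to_subgroup K) (le_trans ?_ hzord.le)
    have key : ∀ c ∈ K, c ^ p = 1 → c ∈ zpowers z := by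
      rintro c ⟨hc, hce⟩ hcp
      obtain ⟨i, j', rfl⟩ := h.frame.gen c (mem_of_centralizer h.p2 h.pg h.rank h.el h.card2 hc hcp)
      rw [h.commXE] at hce
      obtain ⟨l, hl⟩ := exists_npow hce
      have hl1 : p ∣ j' := by
        by_cases hpl : p ∣ l
        · rw [pow_choose_eq_one he₀p hpl] at hl
          exact (pow_eq_one_iff_dvd h.zp h.frame.z1 j').mp hl.symm
        · obtain ⟨q, hq⟩ := mem_zpowers_of_pow_notDvd hp he₀p hpl
          exact absurd (by rw [← hq, pow_mul, hl]; exact pow_mem (pow_mem (mem_zpowers z) j') q) hgz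
      rw [pow_choose_eq_one (h.el.2 y h.frame.yE) hl1, mul_one]
      exact pow_mem (mem_zpowers z) i
    refine Nat.card_le_card_of_injective
      (fun d => (⟨(d.1 : G), key _ d.1.2 (by simpa using congrArg Subtype.val d.2)⟩ : zpowers z)) ?_
    intro a b hab
    exact Subtype.ext (Subtype.ext (congrArg (fun t : zpowers z => (t : G)) hab))
  have hgK : g ∈ K := ⟨hgC, mem_zpowers _⟩
  have hN : ∀ d ∈ centralizer (E : Set G) ⊓ centralizer ({x} : Set G), d ∈ zpowers (g ^ p) := by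
    intro d hd
    have hdK : d ∈ K := ⟨hd.1, by rw [(h.memN.mp hd).2]; exact one_mem _⟩
    obtain ⟨a, ha⟩ := (IsPGroup.iff_orderOf (p := p)).mp h.pg d
    obtain ⟨b, hb⟩ := (IsPGroup.iff_orderOf (p := p)).mp h.pg g
    have hgN : g ∉ centralizer (E : Set G) ⊓ centralizer ({x} : Set G) := fun hh =>
      hgz (by rw [he₀, (h.memN.mp hh).2]; exact one_mem _)
    rcases Nat.lt_or_ge a b with hab | hab
    swap
    · obtain ⟨i, hi⟩ := exists_npow (Fusion.mem_zpowers_of_isCyclic (a := (⟨g, hgK⟩ : K)) (b := ⟨d, hdK⟩)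
        (by rw [orderOf_mk, orderOf_mk, hb, ha]; exact Nat.pow_dvd_pow p hab))
      exact absurd ((show d ^ i = g by simpa using congrArg Subtype.val hi) ▸ pow_mem hd i) hgN
    obtain ⟨i, hi⟩ := exists_npow (Fusion.mem_zpowers_of_isCyclic (a := (⟨d, hdK⟩ : K)) (b := ⟨g, hgK⟩)
      (by rw [orderOf_mk, orderOf_mk, hb, ha]; exact Nat.pow_dvd_pow p hab.le))
    have hi' : g ^ i = d := by simpa using congrArg Subtype.val hi
    have h1 : e₀ ^ i = 1 := by rw [← h.hpow x hgC, hi', (h.memN.mp hd).2]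
    obtain ⟨q, rfl⟩ := (pow_eq_one_iff_dvd he₀p (fun e => hgz (e ▸ one_mem _)) i).mp h1
    exact mem_zpowers_iff.mpr ⟨q, by rw [← hi', zpow_natCast, pow_mul]⟩
  -- `ψ g = e d g^i`
  have hh := hψC g hgC
  have hcom := h.commX (ψ g) hh
  have hE0 : zpowers z ⊔ zpowers e₀ = E := by
    refine eq_of_le_of_card_ge (sup_le (zpowers_le.mpr h.frame.zE) (zpowers_le.mpr (h.commX g hgC))) ?_
    rw [PGroup.card_sup_zpowers (p := p) _ hgz (by rw [he₀p]; exact one_mem _), hzord, h.card2, sq]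
  rw [← hE0] at hcom
  obtain ⟨w, hw, v, hv, hwv⟩ := mem_sup_of_normal_left.mp hcom
  obtain ⟨i, rfl⟩ := exists_npow hv
  have hgi : (g ^ i)⁻¹ ∈ centralizer (E : Set G) := inv_mem (pow_mem hgC i)
  have h2 := h.hom x (c := ψ g * (g ^ i)⁻¹) (c' := g ^ i) (mul_mem hh hgi) (pow_mem hgC i)
  rw [inv_mul_cancel_right, h.hpow x hgC, ← hwv] at h2
  obtain ⟨e, he, d, hd, hed⟩ := h.split (mul_mem hh hgi) ((mul_right_cancel h2) ▸ hw)
  have hψg : ψ g = e * d * g ^ i := by rw [← hed, inv_mul_cancel_right]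
  -- the action on `z`
  obtain ⟨q, hq⟩ := exists_npow (hN z h.zN)
  obtain ⟨t, ht⟩ := exists_npow (hN d hd)
  have hψz : ψ z = z ^ i := by
    have hedC : e * d ∈ centralizer (E : Set G) := mul_mem (h.EC he) hd.1
    calc ψ z = ((ψ g) ^ p) ^ q := by rw [← hq, map_pow, map_pow]
      _ = ((g ^ p) ^ q) ^ (p * t + i) := by
          rw [hψg, (h.ab _ hedC _ (pow_mem hgC i)).mul_pow, (h.ab e (h.EC he) d hd.1).mul_pow, h.el.2 e he,
            one_mul, ← ht, ← pow_mul, ← pow_mul, ← pow_mul, ← pow_mul, ← pow_add, ← pow_mul]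
          rw [← pow_mul]
          congr 1
          ring
      _ = z ^ i := by
          rw [hq, pow_add, pow_mul, h.zp, one_pow, one_mul]
  have hi0 : ¬ p ∣ i := fun hd' => h.frame.z1 (ψ.injective (by
    rw [hψz, map_one, pow_choose_eq_one h.zp hd']))
  -- `ψ r = r^m c₁`
  set c₁ := (r ^ m)⁻¹ * ψ r with hc₁
  have hψr : ψ r = r ^ m * c₁ := by rw [hc₁, mul_inv_cancel_left]
  have hcomm_c : ∀ c ∈ centralizer (E : Set G), ⁅ψ r, c⁆ = ⁅r ^ m, c⁆ := fun c hc => by
    rw [hψr, commutatorElement_mul_left_eq_conj_mul, commutatorElement_eq_one_iff_mul_comm.mpr (h.ab c₁ hψ c hc).eq,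
      mul_one, mul_inv_cancel, one_mul]
  have hψe : ∃ w ∈ zpowers z, ψ e₁ = w * e₁ ^ (i * m) := by
    obtain ⟨w₁, hw₁, hpw⟩ := h.pow_commute r (c := ψ g) hh m
    refine ⟨w₁ * ⁅r, e⁆ ^ m, mul_mem hw₁ (pow_mem (h.commE r he) m), ?_⟩
    have hrd : ⁅r, d⁆ = 1 := commutatorElement_eq_one_iff_mul_comm.mpr (mem_center_iff.mp (h.central hd) r)
    have hrg : ⁅r, ψ g⁆ = ⁅r, e⁆ * e₁ ^ i := by
      rw [hψg, h.hom r (mul_mem (h.EC he) hd.1) (pow_mem hgC i), h.hom r (h.EC he) hd.1, hrd, mul_one,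
        h.hpow r hgC]
    rw [he₁, map_commutatorElement, hcomm_c _ hh, hpw, hrg, ← he₁,
      (show Commute ⁅r, e⁆ (e₁ ^ i) from
        (mem_center_iff.mp (zpowers_le.mpr h.frame.zc (h.commE r he)) _).symm).mul_pow, ← pow_mul, mul_assoc]
  obtain ⟨w₂, hw₂, hψe₁⟩ := hψe
  have h3 : ψ z₁ = z₁ ^ (i * m * m) := by
    have hw2C : w₂ ∈ centralizer (E : Set G) := h.EC (zpowers_le.mpr h.frame.zE hw₂)
    rw [hz₁, map_commutatorElement, hψe₁, hcomm_c _ (mul_mem hw2C (pow_mem (h.EC he₁E) _)),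
      h.hom _ hw2C (pow_mem (h.EC he₁E) _),
      commutatorElement_eq_one_iff_mul_comm.mpr (mem_center_iff.mp (zpowers_le.mpr h.frame.zc hw₂) (r ^ m)),
      one_mul, h.hpow _ (h.EC he₁E), h.pow_commuteE r he₁E, ← pow_mul]
    congr 1
    ring
  obtain ⟨a, ha⟩ := exists_npow hz₁z
  have h4 : ψ z₁ = z₁ ^ i := by rw [← ha, map_pow, hψz, ← pow_mul, ← pow_mul, mul_comm]
  have hz₁p : z₁ ^ p = 1 := by rw [← ha, ← pow_mul, mul_comm, pow_mul, h.zp, one_pow]
  rw [h3, pow_eq_pow_iff_modEq, orderOf_eq_prime hz₁p hz₁1, ← ZMod.natCast_eq_natCast_iff] at h4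
  push_cast at h4 ⊢
  have hi1 : (i : ZMod p) ≠ 0 := fun e => hi0 ((ZMod.natCast_eq_zero_iff i p).mp e)
  refine mul_left_cancel₀ hi1 ?_
  rw [mul_one, ← mul_assoc]
  exact h4

theorem notMem_pow (h : Shape G p E x y z) {R : Subgroup G} {c : G} {j : ℕ}
    (hj : ¬ p ∣ j) (hc : c ∈ R) (hcj : c * x ^ j ∈ R) : x ∈ R := by
  obtain ⟨l, hl⟩ := mem_zpowers_of_pow_notDvd (Fact.out : p.Prime) h.frame.xp hj
  rw [← hl, pow_mul]
  exact pow_mem ((Subgroup.mul_mem_cancel_left _ hc).mp hcj) l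

theorem invZ (h : Shape G p E x y z) {R : Subgroup G} (hpow : ∃ a ∈ R, a ^ p ≠ 1) :
    AutInv R (zpowers z) := by
  obtain ⟨a, haR, hap⟩ := hpow
  obtain ⟨e, he⟩ := (IsPGroup.iff_orderOf (p := p)).mp h.pg a
  have he2 : 2 ≤ e := by
    by_contra hlt
    exact hap (orderOf_dvd_iff_pow_eq_one.mp (he ▸ (pow_dvd_pow p (by omega : e ≤ 1)).trans (pow_one p).dvd))
  set b := a ^ p ^ (e - 2) with hb
  have hbp : (b ^ p) ^ p = 1 := by
    rw [hb, ← pow_mul, ← pow_mul, ← orderOf_dvd_iff_pow_eq_one, he, ← pow_two, ← pow_add,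
      show e - 2 + 2 = e by omega]
  have hb1 : b ^ p ≠ 1 := fun h1 => by
    rw [hb, ← pow_mul, ← orderOf_dvd_iff_pow_eq_one, he, ← pow_succ,
      Nat.pow_dvd_pow_iff_le_right (Fact.out : p.Prime).one_lt] at h1
    omega
  have hgenZ : zpowers (b ^ p) = zpowers z := by
    refine eq_of_le_of_card_ge (zpowers_le.mpr (h.omegaN (h.powN b) hbp)) ?_
    rw [Nat.card_zpowers, Nat.card_zpowers, orderOf_eq_prime h.zp h.frame.z1, orderOf_eq_prime hbp hb1]
  intro α m hm
  rw [← hgenZ] at hm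
  obtain ⟨k, hk⟩ := exists_npow hm
  set b' : R := ⟨b, pow_mem haR _⟩
  have hm' : m = (b' ^ p) ^ k := Subtype.ext (by simpa using hk.symm)
  rw [hm', map_pow, map_pow, Subgroup.coe_pow, Subgroup.coe_pow]
  refine pow_mem (h.omegaN (h.powN _) ?_) k
  rw [← Subgroup.coe_pow, ← map_pow, ← Subgroup.coe_pow, ← map_pow,
    show (b' ^ p) ^ p = 1 from Subtype.ext (by simpa using hbp), map_one]
  rfl

theorem invE (h : Shape G p E x y z) {R : Subgroup G} (hR : ∀ r ∈ R, r ^ p = 1 → r ∈ E) : AutInv R E := by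
  intro α m hm
  refine hR _ (α m).2 ?_
  rw [← Subgroup.coe_pow, ← map_pow, show m ^ p = 1 from Subtype.ext (h.el.2 _ hm), map_one]
  rfl

theorem exists_noncentral (h : Shape G p E x y z) (hsmall : ¬ (Nat.card G = p ^ 3 ∧ Monoid.exponent G = p))
    (hN : ∀ d ∈ centralizer (E : Set G) ⊓ centralizer ({x} : Set G), d ^ p = 1) :
    ∃ g ∈ centralizer (E : Set G), ⁅x, g⁆ ∉ zpowers z := by
  have hp : p.Prime := Fact.out
  by_contra hh
  push Not at hh
  have hC : ∀ c ∈ centralizer (E : Set G), c ∈ E := fun c hc => by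
    obtain ⟨e, he, d, hd, rfl⟩ := h.split hc (hh c hc)
    exact mul_mem he (zpowers_le.mpr h.frame.zE (h.omegaN hd (hN d hd)))
  refine hsmall ⟨?_, ?_⟩
  · have htop : E ⊔ zpowers x = ⊤ := top_le_iff.mp fun a _ => by
      obtain ⟨c, hc, j, rfl⟩ := h.gen a
      exact mul_mem (mem_sup_left (hC c hc)) (mem_sup_right (pow_mem (mem_zpowers x) j))
    rw [← card_top (G := G), ← htop, PGroup.card_sup_zpowers (p := p) E h.frame.xE
      (by rw [h.frame.xp]; exact one_mem _), h.card2]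
    ring
  · have hdvd : Monoid.exponent G ∣ p := Monoid.exponent_dvd_of_forall_pow_eq_one fun a => by
      obtain ⟨c, hc, j, rfl⟩ := h.gen a
      rw [h.pow_eq hc, h.el.2 c (hC c hc)]
    rcases (Nat.dvd_prime hp).mp hdvd with he | he
    · exfalso
      have := Monoid.pow_exponent_eq_one z
      rw [he, pow_one] at this
      exact h.frame.z1 this
    · exact he

/-- The two outcomes for a proper self-centralizing subgroup. -/
theorem cases (h : Shape G p E x y z) (hsmall : ¬ (Nat.card G = p ^ 3 ∧ Monoid.exponent G = p))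
    {R : Subgroup G} (hR : R ≠ ⊤) (hcent : centralizer (R : Set G) ≤ R) :
    (∃ g ∈ normalizer (R : Set G), g ∉ R ∧ ∃ M L : Subgroup G, AutInv R M ∧ AutInv R L ∧
      (∀ r ∈ R, r⁻¹ * (g * r * g⁻¹) ∈ M) ∧ (∀ r ∈ R, r ∈ M → r⁻¹ * (g * r * g⁻¹) ∈ L) ∧
      (∀ r ∈ R, r ∈ L → g * r * g⁻¹ = r)) ∨
    (∃ g ∈ normalizer (R : Set G), g ∉ R ∧ ∃ M : Subgroup G, M ≤ R ∧ AutInv R M ∧
      Nat.card R = Nat.card M * p ^ 2 ∧ (∀ r ∈ R, r ^ p ∈ M) ∧ (∀ r ∈ R, ∀ s ∈ R, ⁅r, s⁆ ∈ M) ∧
      (∀ α : MulAut R, (orderOf α).Coprime p → (∀ r : R, ((r⁻¹ * α r : R) : G) ∈ M) → α = 1) ∧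
      (∃ r ∈ R, r⁻¹ * (g * r * g⁻¹) ∉ M) ∧ M ≤ centralizer (E : Set G) ∧
      (∀ r ∈ R, r⁻¹ * (g * r * g⁻¹) ∈ centralizer (E : Set G)) ∧
      (∃ r ∈ R, r ∉ centralizer (E : Set G)) ∧
      ∀ (ψ : MulAut G) (r : G), r ∉ centralizer (E : Set G) → ∀ m : ℕ,
        (r ^ m)⁻¹ * ψ r ∈ centralizer (E : Set G) → ((m * m : ℕ) : ZMod p) = 1) := by
  have hp : p.Prime := Fact.out
  have hNR : centralizer (E : Set G) ⊓ centralizer ({x} : Set G) ≤ R := fun d hd =>
    hcent (mem_centralizer_iff.mpr fun r _ => mem_center_iff.mp (h.central hd) r)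
  have hzR : z ∈ R := hNR h.zN
  have hzord : Nat.card (zpowers z) = p := by rw [Nat.card_zpowers, orderOf_eq_prime h.zp h.frame.z1]
  have hzn : (zpowers z).Normal := ⟨fun w hw g => by
    rw [mem_center_iff.mp (zpowers_le.mpr h.frame.zc hw) g, mul_inv_cancel_right]; exact hw⟩
  have hconj : ∀ g r : G, r⁻¹ * (g * r * g⁻¹) = ⁅r⁻¹, g⁆ := fun g r => by
    rw [commutatorElement_def, inv_inv]; simp only [mul_assoc]
  have hfixZ : ∀ g : G, ∀ r ∈ R, r ∈ zpowers z → g * r * g⁻¹ = r := fun g r _ hr => by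
    rw [mem_center_iff.mp (zpowers_le.mpr h.frame.zc hr) g, mul_inv_cancel_right]
  have hEg : ∀ g : G, ∀ r ∈ R, r ∈ E → r⁻¹ * (g * r * g⁻¹) ∈ zpowers z := fun g r _ hr => by
    rw [hconj, ← commutatorElement_inv]
    exact inv_mem (h.commE g (inv_mem hr))
  have hEE : ∀ g : G, ∀ r ∈ R, r⁻¹ * (g * r * g⁻¹) ∈ E := fun g r _ => by rw [hconj]; exact h.commAll _ _
  have hCom : ∀ c ∈ centralizer (E : Set G), c ^ p = 1 → c ∈ E := fun c hc hcp =>
    mem_of_centralizer h.p2 h.pg h.rank h.el h.card2 hc hcp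
  by_cases hRC : R ≤ centralizer (E : Set G)
  · -- `R = C(E)`
    have hCR : centralizer (E : Set G) ≤ R := fun c hc =>
      hcent (mem_centralizer_iff.mpr fun r hr => (h.ab r (hRC hr) c hc).eq)
    have hxR : x ∉ R := fun hx => hp.not_dvd_one (h.xC (j := 1) (by rw [pow_one]; exact hRC hx))
    left
    refine ⟨x, h.mem_normalizer (h.EC.trans hCR) x, hxR, E, zpowers z, h.invE fun r hr => hCom r (hRC hr),
      h.invZ ?_, hEE x, hEg x, hfixZ x⟩
    by_contra hh
    push Not at hh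
    obtain ⟨g, hg, hgz⟩ := h.exists_noncentral hsmall fun d hd => hh d (hNR hd)
    exact hgz (h.commE x (hCom g hg (hh g (hCR hg))))
  obtain ⟨r₀, hr₀R, hr₀C⟩ := SetLike.not_le_iff_exists.mp hRC
  obtain ⟨c₀, hc₀, j₀, hr₀⟩ := h.gen r₀
  have hj₀ : ¬ p ∣ j₀ := fun hd => hr₀C (by rw [hr₀, pow_choose_eq_one h.frame.xp hd, mul_one]; exact hc₀)
  by_cases hER : E ≤ R
  · -- `R ∩ C(E) = E N`
    obtain ⟨g, hgC, hgz⟩ : ∃ g ∈ centralizer (E : Set G), ⁅x, g⁆ ∉ zpowers z := by
      by_contra hh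
      push Not at hh
      have hCR : centralizer (E : Set G) ≤ R := fun c hc => by
        obtain ⟨e, he, d, hd, rfl⟩ := h.split hc (hh c hc)
        exact mul_mem (hER he) (hNR hd)
      have hx : x ∈ R := h.notMem_pow hj₀ (hCR hc₀) (hr₀ ▸ hr₀R)
      exact hR (top_le_iff.mp fun a _ => by
        obtain ⟨c, hc, j, rfl⟩ := h.gen a
        exact mul_mem (hCR hc) (pow_mem hx j))
    have hA : ∀ c ∈ R, c ∈ centralizer (E : Set G) → ⁅x, c⁆ ∈ zpowers z := by
      intro c hcR hcC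
      by_contra hcz
      have hCR : centralizer (E : Set G) ≤ R := fun c' hc' => by
        have hE0 : zpowers z ⊔ zpowers ⁅x, c⁆ = E := by
          refine eq_of_le_of_card_ge (sup_le (zpowers_le.mpr h.frame.zE) (zpowers_le.mpr (h.commX c hcC))) ?_
          rw [PGroup.card_sup_zpowers (p := p) _ hcz (by rw [h.el.2 _ (h.commX c hcC)]; exact one_mem _), hzord,
            h.card2, sq]
        have hcom := h.commX c' hc'
        rw [← hE0] at hcom
        obtain ⟨w, hw, v, hv, hwv⟩ := mem_sup_of_normal_left.mp hcom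
        obtain ⟨i, rfl⟩ := exists_npow hv
        have hgi : (c ^ i)⁻¹ ∈ centralizer (E : Set G) := inv_mem (pow_mem hcC i)
        have h2 := h.hom x (c := c' * (c ^ i)⁻¹) (c' := c ^ i) (mul_mem hc' hgi) (pow_mem hcC i)
        rw [inv_mul_cancel_right, h.hpow x hcC, ← hwv] at h2
        obtain ⟨e, he, d, hd, hed⟩ := h.split (mul_mem hc' hgi) ((mul_right_cancel h2) ▸ hw)
        rw [show c' = e * d * c ^ i by rw [← hed, inv_mul_cancel_right]]
        exact mul_mem (mul_mem (hER he) (hNR hd)) (pow_mem hcR i)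
      have hx : x ∈ R := h.notMem_pow hj₀ (hCR hc₀) (hr₀ ▸ hr₀R)
      exact hR (top_le_iff.mp fun a _ => by
        obtain ⟨c', hc', j, rfl⟩ := h.gen a
        exact mul_mem (hCR hc') (pow_mem hx j))
    have hgR : g ∉ R := fun hg => hgz (hA g hg hgC)
    by_cases hxR : x ∈ R
    · -- `R = U N`
      right
      set N := centralizer (E : Set G) ⊓ centralizer ({x} : Set G) with hN
      have hNn : N.Normal := ⟨fun w hw a => by
        rw [mem_center_iff.mp (h.central hw) a, mul_inv_cancel_right]; exact hw⟩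
      have hdec : ∀ r ∈ R, ∃ e ∈ E, ∃ d ∈ N, ∃ j : ℕ, r = e * d * x ^ j := fun r hr => by
        obtain ⟨c, hc, j, rfl⟩ := h.gen r
        obtain ⟨e, he, d, hd, rfl⟩ := h.split hc
          (hA c ((Subgroup.mul_mem_cancel_right _ (pow_mem hxR j)).mp hr) hc)
        exact ⟨e, he, d, hd, j, rfl⟩
      have hyN : y ∉ N := fun hy => h.frame.z1 (by rw [← h.xy, (h.memN.mp hy).2])
      have hxx : ⁅x⁻¹, g⁆ ∉ N := by
        intro hm
        refine hgz ?_
        have he : ⁅x⁻¹, g⁆ ∈ zpowers z := h.omegaN hm (h.el.2 _ (h.commAll _ _))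
        rw [show ⁅x, g⁆ = x * ⁅x⁻¹, g⁆⁻¹ * x⁻¹ by simp only [commutatorElement_def]; group]
        exact hzn.conj_mem _ (inv_mem he) x
      refine ⟨g, h.mem_normalizer hER g, hgR, N, hNR, ?_, ?_, fun r _ => h.powN r, ?_, ?_,
        ⟨x, hxR, by rw [hconj]; exact hxx⟩, inf_le_left, fun r hr => h.EC (hEE g r hr),
        ⟨r₀, hr₀R, hr₀C⟩, fun ψ r hr m hm => h.key hgC hgz ψ hr hm⟩
      · intro α m hm
        have hc : ∀ a : R, Commute a m := fun a => Subtype.ext (mem_center_iff.mp (h.central hm) a)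
        have hc' : ∀ a : R, Commute ((α m : R) : G) (a : G) := fun a => by
          have := ((hc (α.symm a)).map (α : R →* R)).map R.subtype
          simpa using this.symm
        obtain ⟨c, hcC, j, hcj⟩ := h.gen ((α m : R) : G)
        have hdj : p ∣ j := by
          refine (pow_eq_one_iff_dvd h.zp h.frame.z1 j).mp ?_
          have h1 := hc' ⟨y, hER h.frame.yE⟩
          rw [hcj] at h1
          have h2 : Commute (x ^ j) y := by
            have := ((h.ab c hcC y (h.EC h.frame.yE)).inv_left).mul_left h1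
            rwa [inv_mul_cancel_left] at this
          rw [← h.xy, ← h.pow_commuteE x h.frame.yE, commutatorElement_eq_one_iff_mul_comm.mpr h2.eq]
        rw [hcj, pow_choose_eq_one h.frame.xp hdj, mul_one] at hc' ⊢
        exact h.memN.mpr ⟨hcC, commutatorElement_eq_one_iff_mul_comm.mpr (hc' ⟨x, hxR⟩).symm.eq⟩
      · have h1 : R = N ⊔ zpowers y ⊔ zpowers x := by
          refine le_antisymm (fun r hr => ?_) (sup_le (sup_le hNR (zpowers_le.mpr (hER h.frame.yE)))
            (zpowers_le.mpr hxR))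
          obtain ⟨e, he, d, hd, j, rfl⟩ := hdec r hr
          obtain ⟨a, b, rfl⟩ := h.frame.gen e he
          refine mul_mem (mem_sup_left (mul_mem (mul_mem ?_ ?_) (mem_sup_left hd)))
            (mem_sup_right (pow_mem (mem_zpowers x) j))
          · exact mem_sup_left (pow_mem h.zN a)
          · exact mem_sup_right (pow_mem (mem_zpowers y) b)
        have hn : (N ⊔ zpowers y).Normal := Normal.of_commutator_le G (by
          rw [commutator_eq_closure, closure_le]
          rintro _ ⟨a, b, rfl⟩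
          obtain ⟨i, j, hij⟩ := h.frame.gen _ (h.commAll a b)
          rw [SetLike.mem_coe, hij]
          exact mul_mem (mem_sup_left (pow_mem h.zN i)) (mem_sup_right (pow_mem (mem_zpowers y) j)))
        have hxn : x ∉ N ⊔ zpowers y := fun hx => hp.not_dvd_one (h.xC (j := 1) (by
          rw [pow_one]; exact (sup_le inf_le_left (zpowers_le.mpr (h.EC h.frame.yE))) hx))
        rw [h1, PGroup.card_sup_zpowers (p := p) _ hxn (by rw [h.frame.xp]; exact one_mem _),
          PGroup.card_sup_zpowers (p := p) N hyN (by rw [h.el.2 y h.frame.yE]; exact one_mem _)]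
        ring
      · intro r hr s hs
        refine zpowers_le.mpr h.zN ((QuotientGroup.eq_one_iff _).mp
          ((map_commutatorElement (QuotientGroup.mk' (zpowers z)) r s).trans ?_))
        rw [commutatorElement_eq_one_iff_mul_comm]
        set π := QuotientGroup.mk' (zpowers z)
        have hee : ∀ e ∈ E, ∀ a : G, Commute (π e) (π a) := fun e he a =>
          (commutatorElement_eq_one_iff_mul_comm.mp ((map_commutatorElement π a e).symm.trans
            ((QuotientGroup.eq_one_iff _).mpr (h.commE a he)))).symm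
        have hdd : ∀ d ∈ N, ∀ a : G, Commute (π d) (π a) := fun d hd a =>
          ((show Commute a d from mem_center_iff.mp (h.central hd) a).symm).map π
        obtain ⟨e, he, d, hd, j, rfl⟩ := hdec r hr
        obtain ⟨e', he', d', hd', j', rfl⟩ := hdec s hs
        have hxx' : Commute (π (x ^ j)) (π (e' * d' * x ^ j')) := by
          rw [map_mul, map_mul]
          exact ((hee e' he' _).symm.mul_right (hdd d' hd' _).symm).mul_right
            (((Commute.refl x).pow_pow j j').map π)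
        rw [map_mul, map_mul]
        exact (((hee e he _).mul_left (hdd d hd _)).mul_left hxx').eq
      · intro α hα hfix
        have hN' : ∀ m ∈ N.subgroupOf R, α m ∈ N.subgroupOf R := fun m hm => by
          rw [Subgroup.mem_subgroupOf] at hm ⊢
          have h1 := hfix m
          rw [Subgroup.coe_mul, Subgroup.coe_inv] at h1
          exact (Subgroup.mul_mem_cancel_left _ (inv_mem hm)).mp h1
        set x' : R := ⟨x, hxR⟩
        set y' : R := ⟨y, hER h.frame.yE⟩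
        have hzfix : α ⁅x', y'⁆ = ⁅x', y'⁆ := by
          refine Subtype.ext ?_
          rw [map_commutatorElement]
          simp only [commutatorElement_def, Subgroup.coe_mul, Subgroup.coe_inv]
          have hcen : ∀ a : R, ∃ n ∈ center G, ((α a : R) : G) = (a : G) * n := fun a =>
            ⟨((a⁻¹ * α a : R) : G), h.central (hfix a), by rw [← Subgroup.coe_mul, mul_inv_cancel_left]⟩
          obtain ⟨n1, hn1, hx1⟩ := hcen x'
          obtain ⟨n2, hn2, hy2⟩ := hcen y'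
          rw [hx1, hy2]
          have c1 : ∀ a : G, n1 * a = a * n1 := fun a => (mem_center_iff.mp hn1 a).symm
          have c2 : ∀ a : G, n2 * a = a * n2 := fun a => (mem_center_iff.mp hn2 a).symm
          calc (x' : G) * n1 * ((y' : G) * n2) * ((x' : G) * n1)⁻¹ * ((y' : G) * n2)⁻¹
              = (x' : G) * (n1 * ((y' : G) * n2)) * n1⁻¹ * (x' : G)⁻¹ * n2⁻¹ * (y' : G)⁻¹ := by group
            _ = (x' : G) * (y' : G) * (n2 * (x' : G)⁻¹) * n2⁻¹ * (y' : G)⁻¹ := by rw [c1]; group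
            _ = _ := by rw [c2]; group
        have hfixN : ∀ m ∈ N.subgroupOf R, α m = m := by
          refine Fusion.eq_self_of_fix_pow_eq_one h.p2 (h.pg.to_subgroup R) hα hN' fun m hm hmp => ?_
          have hmz := h.omegaN hm (by rw [← map_pow, hmp, map_one])
          obtain ⟨k, hk⟩ := exists_npow hmz
          have : m = ⁅x', y'⁆ ^ k := Subtype.ext (by
            rw [Subgroup.coe_pow]; refine Eq.trans hk.symm ?_; rw [← h.xy]; rfl)
          rw [this, map_pow, hzfix]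
        refine MulEquiv.ext fun r => ?_
        exact Fusion.eq_self_of_translate (h.pg.to_subgroup R) hα
          (hfixN _ (by rw [Subgroup.mem_subgroupOf]; exact hfix r))
    · -- `Ω₁(R) = E`
      left
      refine ⟨x, h.mem_normalizer hER x, hxR, E, zpowers z, h.invE ?_, h.invZ ?_, hEE x, hEg x, hfixZ x⟩
      · intro r hr hrp
        obtain ⟨c, hc, j, rfl⟩ := h.gen r
        rw [h.pow_eq hc] at hrp
        have hcE := hCom c hc hrp
        by_cases hd : p ∣ j
        · rw [pow_choose_eq_one h.frame.xp hd, mul_one]; exact hcE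
        · exact absurd (h.notMem_pow hd (hER hcE) hr) hxR
      · refine ⟨r₀, hr₀R, fun h1 => ?_⟩
        rw [hr₀, h.pow_eq hc₀] at h1
        exact hxR (h.notMem_pow hj₀ (hER (hCom c₀ hc₀ h1)) (hr₀ ▸ hr₀R))
  -- `E ⊄ R`
  have hRE : ∀ e ∈ E, e ∈ R → e ∈ zpowers z := by
    intro e he heR
    obtain ⟨i, j, rfl⟩ := h.frame.gen e he
    by_cases hd : p ∣ j
    · rw [pow_choose_eq_one (h.el.2 y h.frame.yE) hd, mul_one]; exact pow_mem (mem_zpowers z) i
    · exfalso
      obtain ⟨l, hl⟩ := mem_zpowers_of_pow_notDvd hp (h.el.2 y h.frame.yE) hd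
      refine hER fun e' he' => ?_
      have hy : y ∈ R := by
        rw [← hl, pow_mul]
        exact pow_mem ((Subgroup.mul_mem_cancel_left _ (pow_mem hzR i)).mp heR) l
      obtain ⟨a, b, rfl⟩ := h.frame.gen e' he'
      exact mul_mem (pow_mem hzR a) (pow_mem hy b)
  have hyR : y ∉ R := fun hy => h.frame.z1 (by
    obtain ⟨k, hk⟩ := exists_npow (hRE y h.frame.yE hy)
    rw [← h.xy, ← hk, h.hpow x (h.EC h.frame.zE), (h.memN.mp h.zN).2, one_pow])
  have hynorm : y ∈ normalizer (R : Set G) := mem_normalizer_of_conj_mem R fun r hr => by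
    rw [show y * r * y⁻¹ = ⁅y, r⁆ * r by rw [commutatorElement_def]; group]
    refine mul_mem (zpowers_le.mpr hzR ?_) hr
    rw [← commutatorElement_inv]
    exact inv_mem (h.commE r h.frame.yE)
  have hyZ : ∀ r ∈ R, r⁻¹ * (y * r * y⁻¹) ∈ zpowers z := fun r _ => by
    rw [hconj]; exact h.commE _ h.frame.yE
  by_cases hpow : ∃ a ∈ R, a ^ p ≠ 1
  · left
    refine ⟨y, hynorm, hyR, zpowers z, ⊥, h.invZ hpow, ?_, hyZ, ?_, fun r _ hr => ?_⟩
    · intro α m hm
      rw [mem_bot, OneMemClass.coe_eq_one] at hm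
      rw [hm, map_one]
      exact one_mem _
    · intro r hr hrz
      rw [hfixZ y r hr hrz, inv_mul_cancel]
      exact one_mem _
    · rw [mem_bot.mp hr]; group
  right
  push Not at hpow
  obtain ⟨g, hgC, hgz⟩ := h.exists_noncentral hsmall fun d hd => hpow d (hNR hd)
  have hA : ∀ c ∈ R, c ∈ centralizer (E : Set G) → c ∈ zpowers z := fun c hcR hcC =>
    hRE c (hCom c hcC (hpow c hcR)) hcR
  have hdec : ∀ r ∈ R, r ∈ zpowers z ⊔ zpowers r₀ := by
    intro r hr
    obtain ⟨c, hc, j, rfl⟩ := h.gen r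
    obtain ⟨l, -, hl⟩ := Nat.exists_mul_mod_eq_one_of_coprime (k := p) (n := j₀)
      ((hp.coprime_iff_not_dvd.mpr hj₀).symm) hp.one_lt
    have hq : c * x ^ j * (r₀ ^ (l * j))⁻¹ ∈ centralizer (E : Set G) := by
      rw [← QuotientGroup.eq_one_iff, QuotientGroup.mk_mul, QuotientGroup.mk_inv, QuotientGroup.mk_pow, hr₀,
        QuotientGroup.mk_mul, QuotientGroup.mk_mul, (QuotientGroup.eq_one_iff c).mpr hc,
        (QuotientGroup.eq_one_iff c₀).mpr hc₀, one_mul, one_mul, ← QuotientGroup.mk_pow, ← pow_mul, ← mul_assoc,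
        pow_mul x, pow_eq_pow_mod (j₀ * l) h.frame.xp, hl, pow_one, mul_inv_cancel]
    have := hA _ (mul_mem hr (inv_mem (pow_mem hr₀R _))) hq
    rw [show c * x ^ j = c * x ^ j * (r₀ ^ (l * j))⁻¹ * r₀ ^ (l * j) by rw [inv_mul_cancel_right]]
    exact mul_mem (mem_sup_left this) (mem_sup_right (pow_mem (mem_zpowers r₀) _))
  refine ⟨y, hynorm, hyR, ⊥, bot_le, ?_, ?_, fun r hr => by rw [mem_bot]; exact hpow r hr, ?_, ?_, ?_,
    bot_le, fun r hr => h.EC (hEE y r hr), ⟨r₀, hr₀R, hr₀C⟩, fun ψ r hr m hm => h.key hgC hgz ψ hr hm⟩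
  · intro α m hm
    rw [mem_bot, OneMemClass.coe_eq_one] at hm
    rw [hm, map_one]
    exact one_mem _
  · have heq : R = zpowers z ⊔ zpowers r₀ :=
      le_antisymm hdec (sup_le (zpowers_le.mpr hzR) (zpowers_le.mpr hr₀R))
    rw [card_bot, one_mul, heq, PGroup.card_sup_zpowers (p := p) _
      (fun hm => hr₀C (h.EC (zpowers_le.mpr h.frame.zE hm))) (by rw [hpow r₀ hr₀R]; exact one_mem _), hzord, sq]
  · intro r hr s hs
    rw [mem_bot, commutatorElement_eq_one_iff_mul_comm]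
    have hzc : ∀ a ∈ zpowers z, ∀ b : G, Commute a b := fun a ha b =>
      (mem_center_iff.mp (zpowers_le.mpr h.frame.zc ha) b).symm
    obtain ⟨a, ha, b, hb, rfl⟩ := mem_sup_of_normal_left.mp (hdec r hr)
    obtain ⟨a', ha', b', hb', rfl⟩ := mem_sup_of_normal_left.mp (hdec s hs)
    obtain ⟨i, rfl⟩ := exists_npow hb
    obtain ⟨i', rfl⟩ := exists_npow hb'
    exact ((hzc a ha _).mul_left ((hzc a' ha' _).symm.mul_right ((Commute.refl r₀).pow_pow i i'))).eq
  · intro α _ hfix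
    refine MulEquiv.ext fun r => ?_
    have := hfix r
    rw [mem_bot, OneMemClass.coe_eq_one] at this
    exact (inv_mul_eq_one.mp this).symm
  · refine ⟨r₀, hr₀R, fun hm => hr₀C ?_⟩
    rw [mem_bot, hconj, commutatorElement_eq_one_iff_mul_comm] at hm
    have hcomm : Commute r₀ y := by
      have := (show Commute r₀⁻¹ y from hm).inv_left
      rwa [inv_inv] at this
    refine mem_centralizer_iff.mpr fun e he => ?_
    obtain ⟨a, b, rfl⟩ := h.frame.gen e he
    exact (((show Commute r₀ z from mem_center_iff.mp h.frame.zc r₀).symm.pow_left a).mul_left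
      (hcomm.symm.pow_left b)).eq

end Shape

end Cfsg.Agent.RankTwoClass
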